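import Cfsg.Agent.ClassSize.FourSizes.Straight

/-!
Class sizes `1, n, m, n * m`: the crossed case, basic facts.
-/

set_option autoImplicit false
set_option linter.unusedSectionVars false
set_option linter.style.haveILetI false

namespace Cfsg.Lib.FourSizes

open Subgroup Cfsg.Lib.ClassSize

universe u

variable {G : Type u} [Group G] [Finite G] {n m : ℕ}

/-- Prime power elements of class size `n` have prime not dividing `n`. -/
def CrossN (G : Type u) [Group G] (n : ℕ) : Prop :=
  ∀ p : ℕ, p.Prime → ∀ a : G, PEl p a → cs a = n → ¬ p ∣ n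

/-- The crossed case. -/
structure Cross (G : Type u) [Group G] (n m : ℕ) : Prop where
  hyp : Hyp G n m
  crossN : CrossN G n
  crossM : CrossN G m

theorem Cross.swap (hC : Cross G n m) : Cross G m n := ⟨hC.hyp.swap, hC.crossM, hC.crossN⟩

namespace Hyp

theorem not_center_of_eq_n (hT : Hyp G n m) {a : G} (ha : cs a = n) : a ∉ center G := fun h => by
  have := cs_eq_one_iff.mpr h
  have := hT.n_lt
  omega

/-- An element of class size `n` whose prime divides `m` commutes with no element of class size `m`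
whose prime divides `m`. -/
theorem no_commute (hT : Hyp G n m) {p r : ℕ} (hp : p.Prime) (hr : r.Prime) {u c : G}
    (hu : PEl p u) (hun : cs u = n) (hpn : ¬ p ∣ n) (hc : PEl r c) (hcm : cs c = m) (hrm : r ∣ m)
    (h : Commute u c) : False := by
  obtain ⟨P, L, hPC, hLC, hPp, hLp, hPel, hLel, -, hPL, -, hdich⟩ := hT.swap.split hr hc hcm hrm
  obtain ⟨q, hq, hqn⟩ := Nat.exists_prime_and_dvd hT.n_lt.ne'
  haveI := Fact.mk hq
  have hqm : ¬ q ∣ m := fun h => hq.ne_one (Nat.eq_one_of_dvd_coprimes hT.cop hqn h)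
  obtain ⟨Q, hQ⟩ := exists_sylow_le_cent (H := centralizer ({c} : Set G))
    (show ¬ q ∣ cs c by rw [hcm]; exact hqm)
  have hqr : q ≠ r := fun e => hqm (e ▸ hrm)
  have huC : u ∈ centralizer ({c} : Set G) := mem_cent.mpr h
  have hQu : (Q : Subgroup G) ≤ centralizer ({u} : Set G) := fun x hx => by
    refine mem_cent.mpr ?_
    have hxL : x ∈ L := hLel x (hQ hx) (pel_coprime_prime hq hr hqr (pel_of_mem Q.2 hx))
    rcases eq_or_ne p r with rfl | hpr
    · exact (hPL u (hPel u huC hu) x hxL).symm
    · have huL : u ∈ L := hLel u huC (pel_coprime_prime hp hr hpr hu)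
      rcases hdich with hab | ⟨s, b, hs, hb, hcen, -⟩
      · exact hab x hxL u huL
      · refine (hcen u huL (pel_coprime_prime hp hs (fun e => hpn ?_) hu) x hxL).symm
        rw [hb, e]
        refine dvd_pow_self s fun hb0 => ?_
        subst hb0
        rw [pow_zero] at hb
        have := hT.n_lt
        omega
  exact Q.not_dvd_index ((hun ▸ hqn : q ∣ cs u).trans (index_dvd_of_le hQu))

theorem crossM_of_not_straightN (hT : Hyp G n m) (h : ¬ StraightN G n) : CrossN G m := by
  simp only [StraightN, not_forall] at h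
  obtain ⟨p, hp, u, hu, hun, hpn⟩ := h
  intro r hr c hc hcm hrm
  have hrn : ¬ r ∣ cs u := by
    rw [hun]; exact fun h => hr.ne_one (Nat.eq_one_of_dvd_coprimes hT.cop h hrm)
  obtain ⟨g, hg⟩ := exists_conj_mem hr hrn hc
  exact hT.no_commute hp hr hu hun hpn (pel_conj hc g) (by rw [cs_conj, hcm]) hrm
    (mem_cent.mp hg).symm

theorem cross_of_not_straightN (hT : Hyp G n m) (h : ¬ StraightN G n) : Cross G n m := by
  have hM := hT.crossM_of_not_straightN h
  refine ⟨hT, hT.swap.crossM_of_not_straightN fun hs => ?_, hM⟩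
  obtain ⟨r, hr, v, hv, hvm⟩ := hT.swap.exists_N
  exact hM r hr v hv hvm (hs r hr v hv hvm)

theorem straight_or_cross (hT : Hyp G n m) :
    (StraightN G n ∧ StraightN G m) ∨ Cross G n m := by
  by_cases h1 : StraightN G n
  · by_cases h2 : StraightN G m
    · exact Or.inl ⟨h1, h2⟩
    · exact Or.inr (hT.swap.cross_of_not_straightN h2).swap
  · exact Or.inr (hT.cross_of_not_straightN h1)

end Hyp

namespace Cross

variable (hC : Cross G n m)
include hC

theorem prime_N {p : ℕ} (hp : p.Prime) {a : G} (ha : PEl p a) (han : cs a = n) : p ∣ m ∧ ¬ p ∣ n :=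
  ⟨(hC.hyp.prime_dvd hp ha (hC.hyp.not_center_of_eq_n han)).resolve_left (hC.crossN p hp a ha han),
    hC.crossN p hp a ha han⟩

theorem prime_M {q : ℕ} (hq : q.Prime) {a : G} (ha : PEl q a) (ham : cs a = m) : q ∣ n ∧ ¬ q ∣ m :=
  hC.swap.prime_N hq ha ham

/-- A prime power element of prime dividing `m` in both centralisers gives a commuting pair. -/
theorem comm_of_mem {p q s : ℕ} (hp : p.Prime) (hq : q.Prime) (hs : s.Prime) {u v b : G} (hu : PEl p u)
    (hun : cs u = n) (hv : PEl q v) (hvm : cs v = m) (hb : PEl s b) (hbc : b ∉ center G) (hsm : s ∣ m)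
    (h1 : Commute u b) (h2 : Commute v b) :
    ∃ p : ℕ, p.Prime ∧ ∃ u : G, PEl p u ∧ cs u = n ∧ Commute u v := by
  rcases hC.hyp.cases b with h | h | h | h
  · exact absurd (cs_eq_one_iff.mp h) hbc
  · exact ⟨s, hs, b, hb, h, h2.symm⟩
  · exact absurd hsm (hC.crossM s hs b hb h)
  · refine ⟨p, hp, u, hu, hun, ?_⟩
    have hsq : s ≠ q := fun e => (hC.prime_M hq hv hvm).2 (e ▸ hsm)
    have he := hC.hyp.cent_eq_of_le (K := centralizer ({b} : Set G)) h
      (y := b * v) (by rw [cent_mul_of_coprime h2.symm (pel_coprime hs hq hsq hb hv)]; exact inf_le_left)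
    have : u ∈ centralizer ({b * v} : Set G) := he ▸ mem_cent.mpr h1
    rw [cent_mul_of_coprime h2.symm (pel_coprime hs hq hsq hb hv)] at this
    exact mem_cent.mp this.2

/-- Every prime power element of class size `m` commutes with one of class size `n`. -/
theorem exists_comm {q : ℕ} (hq : q.Prime) {v : G} (hv : PEl q v) (hvm : cs v = m) :
    ∃ p : ℕ, p.Prime ∧ ∃ u : G, PEl p u ∧ cs u = n ∧ Commute u v := by
  obtain ⟨p, hp, u, hu, hun⟩ := hC.hyp.exists_N
  haveI := Fact.mk hp
  obtain ⟨b, hb1, hb2, hbc, s, hs, hbs⟩ : ∃ b, b ∈ centralizer ({u} : Set G) ∧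
      b ∈ centralizer ({v} : Set G) ∧ b ∉ center G ∧ ∃ s : ℕ, s.Prime ∧ PEl s b := by
    by_contra hcon
    push Not at hcon
    refine hC.hyp.inter_not_central hun hvm fun x hx => mem_of_parts fun r hr g hg hgo => ?_
    by_contra hgc
    have hgx := zpowers_le.mpr hx hg
    exact hcon g hgx.1 hgx.2 hgc r hr hgo
  have h1 := (mem_cent.mp hb1).symm
  have h2 := (mem_cent.mp hb2).symm
  rcases hC.hyp.prime_dvd hs hbs hbc with hsn | hsm
  · have hsp : s ≠ p := fun e => (hC.prime_N hp hu hun).2 (e ▸ hsn)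
    rcases hC.hyp.cases b with h | h | h | h
    · exact absurd (cs_eq_one_iff.mp h) hbc
    · exact absurd hsn (hC.crossN s hs b hbs h)
    · -- a `p`-element in both centralisers
      have hK : (centralizer ({u} : Set G) ⊓ centralizer ({b} : Set G)).index =
          (centralizer ({u} : Set G) ⊓ centralizer ({v} : Set G)).index := by
        rw [hC.hyp.inter_index hun h, hC.hyp.inter_index hun hvm]
      have hlt := fact_lt (p := p) (Z := center G)
        (K := centralizer ({u} : Set G) ⊓ centralizer ({b} : Set G))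
        (fun z hz => ⟨mem_cent.mpr (Subgroup.mem_center_iff.mp hz u).symm,
          mem_cent.mpr (Subgroup.mem_center_iff.mp hz b).symm⟩)
        ⟨mem_cent.mpr (Commute.refl u), mem_cent.mpr h1⟩ (hC.hyp.not_center_of_eq_n hun) hu
        fun z hz => Subgroup.mem_center_iff.mp hz u
      have e1 := fact_index (p := p) (centralizer ({u} : Set G) ⊓ centralizer ({b} : Set G))
      have e2 := fact_index (p := p) (centralizer ({u} : Set G) ⊓ centralizer ({v} : Set G))
      rw [hK] at e1
      obtain ⟨b', hb', hb'c, hb'p⟩ := exists_pel (p := p) (Z := center G)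
        (K := centralizer ({u} : Set G) ⊓ centralizer ({v} : Set G)) (by omega)
      exact hC.comm_of_mem hp hq hp hu hun hv hvm hb'p hb'c (hC.prime_N hp hu hun).1
        (mem_cent.mp hb'.1).symm (mem_cent.mp hb'.2).symm
    · refine ⟨p, hp, u, hu, hun, ?_⟩
      have he := hC.hyp.cent_eq_of_le (K := centralizer ({b} : Set G)) h
        (y := b * u) (by rw [cent_mul_of_coprime h1.symm (pel_coprime hs hp hsp hbs hu)]; exact inf_le_left)
      have : v ∈ centralizer ({b * u} : Set G) := he ▸ mem_cent.mpr h2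
      rw [cent_mul_of_coprime h1.symm (pel_coprime hs hp hsp hbs hu)] at this
      exact (mem_cent.mp this.2).symm
  · exact hC.comm_of_mem hp hq hs hu hun hv hvm hbs hbc hsm h1 h2

end Cross

end Cfsg.Lib.FourSizes
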