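import Cfsg.Agent.ClassSize.FourSizes.Crossed
import Cfsg.Agent.Coprime.Sylow
import Cfsg.Agent.SolvStruct.ClassSizesNilpotent

/-!
Class sizes `1, n, m, n * m`, crossed case: `m` has only one prime divisor.
-/

set_option autoImplicit false
set_option linter.unusedSectionVars false
set_option linter.style.haveILetI false

namespace Cfsg.Lib.FourSizes

open Subgroup Cfsg.Lib.ClassSize

universe u

variable {G : Type u} [Group G] [Finite G]

/-- A commuting pair `u, v` and a second prime `r` dividing `m`. -/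
structure Setup (G : Type u) [Group G] (n m p q r : ℕ) (u v : G) : Prop where
  cross : Cross G n m
  hp : p.Prime
  hq : q.Prime
  hr : r.Prime
  hu : PEl p u
  hun : cs u = n
  hv : PEl q v
  hvm : cs v = m
  comm : Commute u v
  hrm : r ∣ m
  hrp : r ≠ p

namespace Setup

variable {n m p q r : ℕ} {u v : G} (hS : Setup G n m p q r u v)

/-- The elements of `C(u)` centralising `C(u)`. -/
def Zh (u : G) : Subgroup G :=
  centralizer ({u} : Set G) ⊓ centralizer ((centralizer ({u} : Set G) : Subgroup G) : Set G)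

/-- `C(u) ∩ C(c)`. -/
abbrev Kf (u c : G) : Subgroup G := centralizer ({u} : Set G) ⊓ centralizer ({c} : Set G)

theorem commute_zh {u z h : G} (hz : z ∈ Zh u) (hh : h ∈ centralizer ({u} : Set G)) : Commute z h :=
  (mem_centralizer_iff.mp hz.2 h hh).symm

theorem zh_le_kf {u c : G} (hc : c ∈ centralizer ({u} : Set G)) : Zh u ≤ Kf u c := fun _ hz =>
  ⟨hz.1, mem_cent.mpr (commute_zh hz hc)⟩

theorem conj_mem_zh {u g x : G} (hg : g ∈ centralizer ({u} : Set G)) (hx : g * x * g⁻¹ ∈ Zh u) :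
    x ∈ Zh u := by
  have h := commute_zh hx hg
  have : x = g * x * g⁻¹ := by
    calc x = g⁻¹ * (g * x * g⁻¹ * g) := by group
      _ = g⁻¹ * (g * (g * x * g⁻¹)) := by rw [h.eq]
      _ = g * x * g⁻¹ := by group
  rwa [this]

include hS

theorem q_dvd : q ∣ n ∧ ¬ q ∣ m := hS.cross.prime_M hS.hq hS.hv hS.hvm

theorem p_dvd : p ∣ m ∧ ¬ p ∣ n := hS.cross.prime_N hS.hp hS.hu hS.hun

theorem r_not_n : ¬ r ∣ n := fun h =>
  hS.hr.ne_one (Nat.eq_one_of_dvd_coprimes hS.cross.hyp.cop h hS.hrm)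

theorem ne_p {s : ℕ} (hs : s ∣ n) : s ≠ p := fun e => hS.p_dvd.2 (e ▸ hs)

theorem ne_r {s : ℕ} (hs : s ∣ n) : s ≠ r := fun e => hS.r_not_n (e ▸ hs)

theorem q_ne_p : q ≠ p := hS.ne_p hS.q_dvd.1

theorem v_mem : v ∈ centralizer ({u} : Set G) := mem_cent.mpr hS.comm.symm

theorem mem_kf_self {c : G} (hc : c ∈ centralizer ({u} : Set G)) : c ∈ Kf u c :=
  ⟨hc, mem_cent.mpr (Commute.refl c)⟩

theorem index_kf {s : ℕ} (hs : s.Prime) (hsp : s ≠ p) {c : G} (hc : PEl s c)
    (hcH : c ∈ centralizer ({u} : Set G)) (hnz : c ∉ Zh u) : (Kf u c).index = n * m := by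
  have hcomm : Commute u c := (mem_cent.mp hcH).symm
  have he : centralizer ({u * c} : Set G) = Kf u c :=
    cent_mul_of_coprime hcomm (pel_coprime hS.hp hs hsp.symm hS.hu hc)
  have h1 : n ∣ cs (u * c) := by
    conv_lhs => rw [← hS.hun]
    show cs u ∣ (centralizer ({u * c} : Set G)).index
    rw [he]
    exact index_dvd_of_le inf_le_left
  rcases hS.cross.hyp.eq_of_n_dvd h1 with h | h
  · exfalso
    refine hnz ⟨hcH, mem_centralizer_iff.mpr fun y hy => ?_⟩
    have h2 : Kf u c = centralizer ({u} : Set G) := by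
      refine eq_of_le_of_card_ge inf_le_left ?_
      have e1 := (Kf u c).card_mul_index
      have e2 := (centralizer ({u} : Set G)).card_mul_index
      rw [← he] at e1
      rw [show (centralizer ({u} : Set G)).index = n from hS.hun] at e2
      rw [show (centralizer ({u * c} : Set G)).index = n from h, he] at e1
      exact (Nat.eq_of_mul_eq_mul_right (zero_lt_one.trans hS.cross.hyp.n_lt) (e1.trans e2.symm)).ge
    have h3 : y ∈ Kf u c := h2 ▸ hy
    exact (mem_cent.mp h3.2).eq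
  · rw [← he]; exact h

theorem index_kf_m {q' : ℕ} (hq' : q'.Prime) {v' : G} (hv' : PEl q' v') (hv'm : cs v' = m)
    (h : v' ∈ centralizer ({u} : Set G)) : (Kf u v').index = n * m :=
  hS.cross.hyp.inter_index hS.hun hv'm

omit hS in
theorem fact_kf_eq {s : ℕ} {A B : Subgroup G} {k : ℕ} (hA : A.index = k) (hB : B.index = k) :
    (Nat.card A).factorization s = (Nat.card B).factorization s := by
  have e1 := fact_index (p := s) A
  have e2 := fact_index (p := s) B
  rw [hA] at e1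
  rw [hB] at e2
  omega

theorem exists_sylow_H : ∃ R : Sylow r G, (R : Subgroup G) ≤ centralizer ({u} : Set G) :=
  haveI := Fact.mk hS.hr
  exists_sylow_le_cent (show ¬ r ∣ cs u by rw [hS.hun]; exact hS.r_not_n)

theorem fact_zh_lt {q' : ℕ} (hq' : q'.Prime) {v' : G} (hv' : PEl q' v') (hv'm : cs v' = m)
    (h : v' ∈ centralizer ({u} : Set G)) :
    (Nat.card (Zh u)).factorization r < (Nat.card (Kf u v')).factorization r := by
  haveI := Fact.mk hS.hr
  obtain ⟨R, hR⟩ := hS.exists_sylow_H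
  by_cases hall : (R : Subgroup G) ≤ Zh u
  · exfalso
    have h1 := index_dvd_of_le (hall.trans (zh_le_kf h))
    rw [hS.index_kf_m hq' hv' hv'm h] at h1
    exact R.not_dvd_index ((hS.hrm.trans (Dvd.intro_left n rfl)).trans h1)
  · obtain ⟨c, hc, hcz⟩ := SetLike.not_le_iff_exists.mp hall
    have hcr := pel_of_mem R.2 hc
    rw [fact_kf_eq (hS.index_kf_m hq' hv' hv'm h) (hS.index_kf hS.hr hS.hrp hcr (hR hc) hcz)]
    exact fact_lt (zh_le_kf (hR hc)) (hS.mem_kf_self (hR hc)) hcz hcr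
      fun z hz => (commute_zh hz (hR hc)).symm

theorem kf_eq {q' : ℕ} (hq' : q'.Prime) {v' a : G} (hv' : PEl q' v') (hv'm : cs v' = m)
    (h : v' ∈ centralizer ({u} : Set G)) (ha : PEl r a) (haH : a ∈ centralizer ({u} : Set G))
    (haz : a ∉ Zh u) (hav : Commute a v') :
    Kf u a = Kf u v' ∧ centralizer ({a * v'} : Set G) = Kf u v' := by
  have hq'n := (hS.cross.prime_M hq' hv' hv'm).1
  have hqr : r ≠ q' := (hS.ne_r hq'n).symm
  have hqp : q' ≠ p := hS.ne_p hq'n
  have hKv := hS.index_kf_m hq' hv' hv'm h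
  have hKa := hS.index_kf hS.hr hS.hrp ha haH haz
  have hua : Commute u a := (mem_cent.mp haH).symm
  have huv : Commute u v' := (mem_cent.mp h).symm
  have e1 : centralizer ({u * a} : Set G) = Kf u a :=
    cent_mul_of_coprime hua (pel_coprime hS.hp hS.hr hS.hrp.symm hS.hu ha)
  have hcop : (orderOf (u * a)).Coprime (orderOf v') := by
    rw [hua.orderOf_mul_eq_mul_orderOf_of_coprime (pel_coprime hS.hp hS.hr hS.hrp.symm hS.hu ha)]
    exact Nat.Coprime.mul_left (pel_coprime hS.hp hq' hqp.symm hS.hu hv')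
      (pel_coprime hS.hr hq' hqr ha hv')
  have e2 : centralizer ({u * a * v'} : Set G) = Kf u a ⊓ centralizer ({v'} : Set G) := by
    rw [cent_mul_of_coprime (huv.mul_left hav) hcop, e1]
  have e3 := hS.cross.hyp.cent_eq_of_le hKa (y := u * a * v') (e2 ▸ inf_le_left)
  have hle : Kf u a ≤ Kf u v' := fun x hx => ⟨hx.1, (e2 ▸ e3.symm ▸ hx : x ∈ Kf u a ⊓ _).2⟩
  have heq : Kf u a = Kf u v' := by
    refine eq_of_le_of_card_ge hle (le_of_eq ?_)
    have c1 := (Kf u a).card_mul_index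
    have c2 := (Kf u v').card_mul_index
    rw [hKa] at c1
    rw [hKv] at c2
    exact Nat.eq_of_mul_eq_mul_right (Nat.mul_pos (zero_lt_one.trans hS.cross.hyp.n_lt)
      (zero_lt_one.trans hS.cross.hyp.m_lt)) (c2.trans c1.symm)
  refine ⟨heq, ?_⟩
  have e4 : centralizer ({a * v'} : Set G) = centralizer ({a} : Set G) ⊓ centralizer ({v'} : Set G) :=
    cent_mul_of_coprime hav (pel_coprime hS.hr hq' hqr ha hv')
  have h1 : m ∣ cs (a * v') := by
    conv_lhs => rw [← hv'm]
    show cs v' ∣ (centralizer ({a * v'} : Set G)).index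
    rw [e4]
    exact index_dvd_of_le inf_le_right
  have hge : Kf u v' ≤ centralizer ({a * v'} : Set G) := by
    rw [e4]
    exact le_inf (fun x hx => (heq ▸ hx : x ∈ Kf u a).2) inf_le_right
  rcases hS.cross.hyp.swap.eq_of_n_dvd h1 with h2 | h2
  · exfalso
    have h3 : centralizer ({v'} : Set G) ≤ centralizer ({a} : Set G) := by
      have h4 : centralizer ({a * v'} : Set G) = centralizer ({v'} : Set G) := by
        refine eq_of_le_of_card_ge (e4 ▸ inf_le_right) (le_of_eq ?_)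
        have c1 := (centralizer ({a * v'} : Set G)).card_mul_index
        have c2 := (centralizer ({v'} : Set G)).card_mul_index
        rw [show (centralizer ({a * v'} : Set G)).index = m from h2] at c1
        rw [show (centralizer ({v'} : Set G)).index = m from hv'm] at c2
        exact Nat.eq_of_mul_eq_mul_right (zero_lt_one.trans hS.cross.hyp.m_lt) (c2.trans c1.symm)
      rw [← h4, e4]
      exact inf_le_left
    rcases hS.cross.hyp.swap.eq_of_dvd_n (x := a) (hv'm ▸ index_dvd_of_le h3) with h5 | h5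
    · exact haz ⟨haH, mem_centralizer_iff.mpr fun y _ =>
        Subgroup.mem_center_iff.mp (cs_eq_one_iff.mp h5) y⟩
    · exact hS.cross.crossM r hS.hr a ha h5 hS.hrm
  · exact (eq_of_le_of_card_ge hge (le_of_eq (by
      have c1 := (centralizer ({a * v'} : Set G)).card_mul_index
      have c2 := (Kf u v').card_mul_index
      rw [show (centralizer ({a * v'} : Set G)).index = m * n from h2, mul_comm m n] at c1
      rw [hKv] at c2
      exact Nat.eq_of_mul_eq_mul_right (Nat.mul_pos (zero_lt_one.trans hS.cross.hyp.n_lt)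
        (zero_lt_one.trans hS.cross.hyp.m_lt)) (c1.trans c2.symm)))).symm

theorem kf_comm {q' : ℕ} (hq' : q'.Prime) {v' : G} (hv' : PEl q' v') (hv'm : cs v' = m)
    (h : v' ∈ centralizer ({u} : Set G)) {x y : G} (hx : x ∈ Kf u v') (hy : y ∈ Kf u v') :
    Commute x y := by
  haveI := Fact.mk hS.hr
  obtain ⟨a, haK, haz, ha⟩ := exists_pel (hS.fact_zh_lt hq' hv' hv'm h)
  have haH : a ∈ centralizer ({u} : Set G) := haK.1
  have hav : Commute a v' := mem_cent.mp haK.2
  obtain ⟨e1, e2⟩ := hS.kf_eq hq' hv' hv'm h ha haH haz hav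
  have hq'n := (hS.cross.prime_M hq' hv' hv'm).1
  have hKv := hS.index_kf_m hq' hv' hv'm h
  have hua : Commute u a := (mem_cent.mp haH).symm
  have huv : Commute u v' := (mem_cent.mp h).symm
  refine mem_cent.mp ((?_ : Kf u v' ≤ centralizer ({y} : Set G)) hx)
  intro z hz
  refine mem_cent.mpr (mem_cent.mp (?_ : y ∈ centralizer ({z} : Set G))).symm
  refine mem_of_parts fun s hs b hb hbs => ?_
  have hbK : b ∈ Kf u v' := zpowers_le.mpr hy hb
  refine mem_cent.mpr ?_
  -- two of the three elements `u, a, v'` have prime different from `s`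
  have key : ∀ w : G, centralizer ({w} : Set G) = Kf u v' → (orderOf w).Coprime (orderOf b) →
      Commute b z := by
    intro w hw hcop
    have hwb : Commute w b := (mem_cent.mp (hw.symm ▸ hbK : b ∈ centralizer ({w} : Set G))).symm
    have h1 := cent_mul_of_coprime hwb hcop
    rw [hw] at h1
    have h2 := hS.cross.hyp.cent_eq_of_le hKv (y := w * b) (h1 ▸ inf_le_left)
    have h3 : z ∈ centralizer ({b} : Set G) := (h1 ▸ h2.symm ▸ hz : z ∈ Kf u v' ⊓ _).2
    exact (mem_cent.mp h3).symm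
  have euv : centralizer ({u * v'} : Set G) = Kf u v' :=
    cent_mul_of_coprime huv (pel_coprime hS.hp hq' (hS.ne_p hq'n).symm hS.hu hv')
  have eua : centralizer ({u * a} : Set G) = Kf u v' :=
    (cent_mul_of_coprime hua (pel_coprime hS.hp hS.hr hS.hrp.symm hS.hu ha)).trans e1
  rcases eq_or_ne s p with rfl | hsp
  · refine key (a * v') e2 ?_
    rw [hav.orderOf_mul_eq_mul_orderOf_of_coprime (pel_coprime hS.hr hq' (hS.ne_r hq'n).symm ha hv')]
    exact Nat.Coprime.mul_left (pel_coprime hS.hr hs hS.hrp ha hbs)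
      (pel_coprime hq' hs (hS.ne_p hq'n) hv' hbs)
  · rcases eq_or_ne s q' with rfl | hsq
    · refine key (u * a) eua ?_
      rw [hua.orderOf_mul_eq_mul_orderOf_of_coprime (pel_coprime hS.hp hS.hr hS.hrp.symm hS.hu ha)]
      exact Nat.Coprime.mul_left (pel_coprime hS.hp hs hsp.symm hS.hu hbs)
        (pel_coprime hS.hr hs (hS.ne_r hq'n).symm ha hbs)
    · refine key (u * v') euv ?_
      rw [huv.orderOf_mul_eq_mul_orderOf_of_coprime (pel_coprime hS.hp hq' (hS.ne_p hq'n).symm hS.hu hv')]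
      exact Nat.Coprime.mul_left (pel_coprime hS.hp hs hsp.symm hS.hu hbs)
        (pel_coprime hq' hs hsq.symm hv' hbs)

/-- Every non-central-in-`C(u)` `r`-element commutes with a `q`-element of class size `m`. -/
theorem exists_M {c : G} (hc : PEl r c) (hcH : c ∈ centralizer ({u} : Set G)) (hcz : c ∉ Zh u) :
    ∃ v' : G, PEl q v' ∧ cs v' = m ∧ v' ∈ centralizer ({u} : Set G) ∧ Commute c v' := by
  haveI := Fact.mk hS.hq
  have hKc := hS.index_kf hS.hr hS.hrp hc hcH hcz
  have hlt : (Nat.card (center G)).factorization q < (Nat.card (Kf u c)).factorization q := by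
    rw [fact_kf_eq hKc (hS.index_kf_m hS.hq hS.hv hS.hvm hS.v_mem)]
    exact fact_lt (fun z hz => ⟨mem_cent.mpr (Subgroup.mem_center_iff.mp hz u).symm,
      mem_cent.mpr (Subgroup.mem_center_iff.mp hz v).symm⟩) (hS.mem_kf_self hS.v_mem)
      (hS.cross.hyp.swap.not_center_of_eq_n hS.hvm) hS.hv fun z hz => Subgroup.mem_center_iff.mp hz v
  obtain ⟨d, hdK, hdc, hd⟩ := exists_pel hlt
  have hcd : Commute c d := (mem_cent.mp hdK.2).symm
  rcases hS.cross.hyp.cases d with h | h | h | h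
  · exact absurd (cs_eq_one_iff.mp h) hdc
  · exact absurd hS.q_dvd.1 (hS.cross.crossN q hS.hq d hd h)
  · exact ⟨d, hd, h, hdK.1, hcd⟩
  · have hud : Commute u d := (mem_cent.mp hdK.1).symm
    have huc : Commute u c := (mem_cent.mp hcH).symm
    have e0 : centralizer ({u * c} : Set G) = Kf u c :=
      cent_mul_of_coprime huc (pel_coprime hS.hp hS.hr hS.hrp.symm hS.hu hc)
    have hcop : (orderOf (u * c)).Coprime (orderOf d) := by
      rw [huc.orderOf_mul_eq_mul_orderOf_of_coprime (pel_coprime hS.hp hS.hr hS.hrp.symm hS.hu hc)]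
      exact Nat.Coprime.mul_left (pel_coprime hS.hp hS.hq hS.q_ne_p.symm hS.hu hd)
        (pel_coprime hS.hr hS.hq (hS.ne_r hS.q_dvd.1).symm hc hd)
    have e1 : centralizer ({u * c * d} : Set G) = Kf u c ⊓ centralizer ({d} : Set G) := by
      rw [cent_mul_of_coprime (hud.mul_left hcd) hcop, e0]
    have e2 := hS.cross.hyp.cent_eq_of_le (K := centralizer ({d} : Set G)) h
      (y := u * c * d) (e1 ▸ inf_le_right)
    obtain ⟨g, hg⟩ := exists_conj_mem hS.hq
      (show ¬ q ∣ cs v by rw [hS.hvm]; exact hS.q_dvd.2) hd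
    have hv'd : g⁻¹ * v * g ∈ centralizer ({d} : Set G) := by
      refine mem_cent.mpr ?_
      have h1 := ((mem_cent.mp hg).symm).map (MulAut.conj g⁻¹).toMonoidHom
      simp only [MulEquiv.coe_toMonoidHom, MulAut.conj_apply, inv_inv] at h1
      simpa [mul_assoc] using h1
    have h3 : g⁻¹ * v * g ∈ Kf u c := (e1 ▸ e2.symm ▸ hv'd : g⁻¹ * v * g ∈ Kf u c ⊓ _).1
    refine ⟨g⁻¹ * v * g, by simpa using pel_conj hS.hv g⁻¹, ?_, h3.1, (mem_cent.mp h3.2).symm⟩
    rw [← hS.hvm]
    simpa using cs_conj v g⁻¹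

/-- `D = C(⟨u^G⟩)`. -/
theorem D_le : centralizer (normalClosure ({u} : Set G) : Set G) ≤ centralizer ({u} : Set G) :=
  centralizer_le (Set.singleton_subset_iff.mpr (subset_normalClosure rfl))

theorem m_mem_D {v' : G} (hv'm : cs v' = m) (h : v' ∈ centralizer ({u} : Set G)) :
    v' ∈ centralizer (normalClosure ({u} : Set G) : Set G) := by
  have hle : normalClosure ({u} : Set G) ≤ centralizer ({v'} : Set G) := by
    refine (closure_le _).mpr fun x hx => ?_
    obtain ⟨b, hb, hba⟩ := Group.mem_conjugatesOfSet_iff.mp hx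
    rw [Set.mem_singleton_iff] at hb
    subst hb
    obtain ⟨g, rfl⟩ := isConj_iff.mp hba
    have := hS.cross.hyp.commute_all hS.hun hv'm (mem_cent.mp h).symm g 1
    exact mem_cent.mpr (by simpa using this)
  exact mem_centralizer_iff.mpr fun x hx => (mem_cent.mp (hle hx)).eq

theorem kf_eq_of_mem {q₁ q₂ : ℕ} (h₁ : q₁.Prime) (h₂ : q₂.Prime) {v₁ v₂ : G} (hv₁ : PEl q₁ v₁)
    (hv₁m : cs v₁ = m) (hH₁ : v₁ ∈ centralizer ({u} : Set G)) (hv₂ : PEl q₂ v₂) (hv₂m : cs v₂ = m)
    (hmem : v₂ ∈ Kf u v₁) : Kf u v₁ = Kf u v₂ := by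
  refine eq_of_le_of_card_ge (fun x hx => ⟨hx.1, mem_cent.mpr (hS.kf_comm h₁ hv₁ hv₁m hH₁ hx hmem)⟩)
    (le_of_eq ?_)
  have c1 := (Kf u v₁).card_mul_index
  have c2 := (Kf u v₂).card_mul_index
  rw [hS.index_kf_m h₁ hv₁ hv₁m hH₁] at c1
  rw [hS.index_kf_m h₂ hv₂ hv₂m hmem.1] at c2
  exact Nat.eq_of_mul_eq_mul_right (Nat.mul_pos (zero_lt_one.trans hS.cross.hyp.n_lt)
    (zero_lt_one.trans hS.cross.hyp.m_lt)) (c2.trans c1.symm)

theorem not_D_le {q' : ℕ} (hq' : q'.Prime) {v' : G} (hv' : PEl q' v') (hv'm : cs v' = m)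
    (h : v' ∈ centralizer ({u} : Set G)) :
    ¬ centralizer (normalClosure ({u} : Set G) : Set G) ≤ Kf u v' := by
  intro hle
  haveI := Fact.mk hS.hr
  obtain ⟨R, hR⟩ := hS.exists_sylow_H
  have hRK : (R : Subgroup G) ≤ Kf u v' := by
    intro c hc
    by_cases hcz : c ∈ Zh u
    · exact zh_le_kf h hcz
    obtain ⟨v'', hv'', hv''m, hv''H, hcv⟩ := hS.exists_M (pel_of_mem R.2 hc) (hR hc) hcz
    rw [hS.kf_eq_of_mem hq' hS.hq hv' hv'm h hv'' hv''m (hle (hS.m_mem_D hv''m hv''H))]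
    exact ⟨hR hc, mem_cent.mpr hcv⟩
  have h1 := index_dvd_of_le hRK
  rw [hS.index_kf_m hq' hv' hv'm h] at h1
  exact R.not_dvd_index ((hS.hrm.trans (Dvd.intro_left n rfl)).trans h1)

theorem r_cases {c : G} (hc : PEl r c) (hcH : c ∈ centralizer ({u} : Set G)) :
    (c ∈ Zh u ∧ (c ∈ center G ∨ centralizer ({c} : Set G) = centralizer ({u} : Set G))) ∨
      (c ∉ Zh u ∧ centralizer ({c} : Set G) = Kf u c) := by
  haveI := Fact.mk hS.hr
  by_cases hcz : c ∈ Zh u
  · refine Or.inl ⟨hcz, ?_⟩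
    have hle : centralizer ({u} : Set G) ≤ centralizer ({c} : Set G) := fun y hy =>
      mem_cent.mpr (commute_zh hcz hy).symm
    rcases hS.cross.hyp.eq_of_dvd_n (x := c) (hS.hun ▸ index_dvd_of_le hle) with h | h
    · exact Or.inl (cs_eq_one_iff.mp h)
    · refine Or.inr (eq_of_le_of_card_ge hle (le_of_eq ?_)).symm
      have c1 := (centralizer ({c} : Set G)).card_mul_index
      have c2 := (centralizer ({u} : Set G)).card_mul_index
      rw [show (centralizer ({c} : Set G)).index = n from h] at c1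
      rw [show (centralizer ({u} : Set G)).index = n from hS.hun] at c2
      exact Nat.eq_of_mul_eq_mul_right (zero_lt_one.trans hS.cross.hyp.n_lt) (c1.trans c2.symm)
  refine Or.inr ⟨hcz, ?_⟩
  rcases hS.cross.hyp.cases c with h | h | h | h
  · exact absurd ⟨hcH, mem_centralizer_iff.mpr fun y _ =>
      Subgroup.mem_center_iff.mp (cs_eq_one_iff.mp h) y⟩ hcz
  · exfalso
    obtain ⟨R, hR⟩ := hS.exists_sylow_H
    obtain ⟨R', hR'⟩ := exists_sylow_le_cent (H := centralizer ({c} : Set G))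
      (show ¬ r ∣ cs c by rw [h]; exact hS.r_not_n)
    obtain ⟨g, rfl⟩ := MulAction.exists_smul_eq G R' R
    set e := g * c * g⁻¹ with he
    have hRe : ∀ x ∈ ((g • R' : Sylow r G) : Subgroup G), Commute x e := by
      rintro _ ⟨y, hy, rfl⟩
      exact (mem_cent.mp (hR' hy)).map (MulAut.conj g).toMonoidHom
    have heR : e ∈ ((g • R' : Sylow r G) : Subgroup G) :=
      Cfsg.Lib.ClassSizesNilpotent.mem_of_le_centralizer _ (pel_isPGroup (pel_conj hc g))
        fun x hx => mem_cent.mpr (hRe x hx)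
    have heZ : e ∈ Zh u := by
      by_contra hez
      have h1 := hS.index_kf hS.hr hS.hrp (pel_conj hc g) (hR heR) hez
      have h2 := index_dvd_of_le (show ((g • R' : Sylow r G) : Subgroup G) ≤ Kf u e from
        fun x hx => ⟨hR hx, mem_cent.mpr (hRe x hx)⟩)
      rw [h1] at h2
      exact (g • R').not_dvd_index ((hS.hrm.trans (Dvd.intro_left n rfl)).trans h2)
    have hle : centralizer ({u} : Set G) ≤ centralizer ({e} : Set G) := fun y hy =>
      mem_cent.mpr (commute_zh heZ hy).symm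
    obtain ⟨v'', hv'', hv''m, hv''H, hcv⟩ := hS.exists_M hc hcH hcz
    have hK : Kf u c = Kf u v'' := (hS.kf_eq hS.hq hv'' hv''m hv''H hc hcH hcz hcv).1
    refine hS.not_D_le hS.hq hv'' hv''m hv''H (hK ▸ fun x hx => ⟨hS.D_le hx, ?_⟩)
    have h3 : g * x * g⁻¹ ∈ centralizer (normalClosure ({u} : Set G) : Set G) :=
      (inferInstance : (centralizer (normalClosure ({u} : Set G) : Set G)).Normal).conj_mem x hx g
    have h4 := (mem_cent.mp (hle (hS.D_le h3))).map (MulAut.conj g⁻¹).toMonoidHom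
    simp only [he, MulEquiv.coe_toMonoidHom, MulAut.conj_apply, inv_inv] at h4
    exact mem_cent.mpr (by simpa [mul_assoc] using h4)
  · exact absurd hS.hrm (hS.cross.crossM r hS.hr c hc h)
  · exact (eq_of_le_of_card_ge inf_le_right (le_of_eq (by
      have c1 := (centralizer ({c} : Set G)).card_mul_index
      have c2 := (Kf u c).card_mul_index
      rw [show (centralizer ({c} : Set G)).index = n * m from h] at c1
      rw [hS.index_kf hS.hr hS.hrp hc hcH hcz] at c2
      exact Nat.eq_of_mul_eq_mul_right (Nat.mul_pos (zero_lt_one.trans hS.cross.hyp.n_lt)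
        (zero_lt_one.trans hS.cross.hyp.m_lt)) (c1.trans c2.symm)))).symm

theorem D_r {c : G} (hc : PEl r c)
    (hcD : c ∈ centralizer (normalClosure ({u} : Set G) : Set G)) : c ∈ Zh u := by
  haveI := Fact.mk hS.hr
  haveI := Fact.mk hS.hq
  by_contra hcz
  set D := centralizer (normalClosure ({u} : Set G) : Set G) with hD
  haveI : D.Normal := by rw [hD]; infer_instance
  have hcH := hS.D_le hcD
  have hCc : centralizer ({c} : Set G) = Kf u c := by
    rcases hS.r_cases hc hcH with ⟨h, -⟩ | ⟨-, h⟩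
    · exact absurd h hcz
    · exact h
  obtain ⟨v'', hv'', hv''m, hv''H, hcv⟩ := hS.exists_M hc hcH hcz
  have hK : Kf u c = Kf u v'' := (hS.kf_eq hS.hq hv'' hv''m hv''H hc hcH hcz hcv).1
  have hKD : Kf u c ≤ D := fun x hx => by
    refine mem_centralizer_iff.mpr fun y hy => ?_
    have hle : normalClosure ({u} : Set G) ≤ centralizer ({x} : Set G) := by
      refine (closure_le _).mpr fun z hz => ?_
      have hzc : z ∈ Kf u c := hCc ▸ mem_cent.mpr
        (mem_centralizer_iff.mp hcD z (subset_closure hz))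
      exact mem_cent.mpr (hS.kf_comm hS.hq hv'' hv''m hv''H (hK ▸ hzc) (hK ▸ hx))
    exact (mem_cent.mp (hle hy)).eq
  obtain ⟨R, hR⟩ := hS.exists_sylow_H
  have hKi := hS.index_kf hS.hr hS.hrp hc hcH hcz
  have hlt := fact_lt (p := r) (Z := center G) (K := Kf u c)
    (fun z hz => ⟨mem_cent.mpr (Subgroup.mem_center_iff.mp hz u).symm,
      mem_cent.mpr (Subgroup.mem_center_iff.mp hz c).symm⟩) (hS.mem_kf_self hcH)
    (fun h => hcz ⟨hcH, mem_centralizer_iff.mpr fun y _ => Subgroup.mem_center_iff.mp h y⟩) hc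
    fun z hz => Subgroup.mem_center_iff.mp hz c
  have hqD : ∀ y : G, PEl q y → y ∈ D := by
    intro y hy
    have h1 : (cs y).factorization r ≤ (n * m).factorization r :=
      (Nat.factorization_le_iff_dvd (index_ne_zero_of_finite)
        (Nat.mul_ne_zero (by have := hS.cross.hyp.n_lt; omega) (by have := hS.cross.hyp.m_lt; omega))).mpr
        (hS.cross.hyp.cs_dvd y) r
    have e1 := fact_index (p := r) (Kf u c)
    have e2 : (Nat.card (centralizer ({y} : Set G))).factorization r + (cs y).factorization r = _ :=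
      fact_index (p := r) (centralizer ({y} : Set G))
    rw [hKi] at e1
    obtain ⟨e, heC, hec, her⟩ := exists_pel (p := r) (Z := center G)
      (K := centralizer ({y} : Set G)) (by omega)
    obtain ⟨g, hg⟩ := exists_conj_mem hS.hr R.not_dvd_index her
    have hgy : g * y * g⁻¹ ∈ centralizer ({g * e * g⁻¹} : Set G) :=
      mem_cent.mpr ((mem_cent.mp heC).symm.map (MulAut.conj g).toMonoidHom)
    have hgH : g * y * g⁻¹ ∈ centralizer ({u} : Set G) := by
      rcases hS.r_cases (pel_conj her g) (hR hg) with ⟨-, h | h⟩ | ⟨-, h⟩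
      · refine absurd ((inferInstance : (center G).Normal).conj_mem _ h g⁻¹) ?_
        simpa [mul_assoc] using hec
      · exact h ▸ hgy
      · exact (h ▸ hgy : g * y * g⁻¹ ∈ Kf u _).1
    have hrel : (Kf u c).relIndex (centralizer ({u} : Set G)) * n = n * m := by
      rw [← hKi, ← relIndex_mul_index (inf_le_left : Kf u c ≤ centralizer ({u} : Set G))]
      rw [show (centralizer ({u} : Set G)).index = n from hS.hun]
    have hni : ¬ q ∣ ((Kf u c).subgroupOf (centralizer ({u} : Set G))).index := by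
      show ¬ q ∣ (Kf u c).relIndex (centralizer ({u} : Set G))
      rw [Nat.eq_of_mul_eq_mul_right (zero_lt_one.trans hS.cross.hyp.n_lt) (hrel.trans (mul_comm n m))]
      exact hS.q_dvd.2
    obtain ⟨⟨h, hh⟩, hhK⟩ := exists_conj_mem hS.hq hni
      (g := (⟨g * y * g⁻¹, hgH⟩ : centralizer ({u} : Set G))) (by
        obtain ⟨k, hk⟩ := pel_conj hy g
        exact ⟨k, by rwa [Subgroup.orderOf_mk]⟩)
    have hmem : h * (g * y * g⁻¹) * h⁻¹ ∈ D := hKD (mem_subgroupOf.mp hhK)
    have := (inferInstance : D.Normal).conj_mem _ hmem (h * g)⁻¹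
    simpa [mul_assoc] using this
  obtain ⟨Q⟩ : Nonempty (Sylow q G) := inferInstance
  exact Q.not_dvd_index ((((show (centralizer ({u} : Set G)).index = n from hS.hun) ▸ hS.q_dvd.1 :
    q ∣ (centralizer ({u} : Set G)).index)).trans
      (index_dvd_of_le ((fun y hy => hS.D_le (hqD y (pel_of_mem Q.2 hy))) :
        (Q : Subgroup G) ≤ centralizer ({u} : Set G))))

theorem sylow_D {v' : G} (hv' : PEl q v') (hv'm : cs v' = m) (h : v' ∈ centralizer ({u} : Set G)) :
    ∃ Qv : Subgroup G, IsPGroup q Qv ∧ v' ∈ Qv ∧ Qv ≤ Kf u v' ∧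
      Qv ≤ centralizer (normalClosure ({u} : Set G) : Set G) ∧
      ¬ q ∣ Qv.relIndex (centralizer (normalClosure ({u} : Set G) : Set G)) ∧
      ∀ y ∈ Kf u v', y ∈ centralizer (normalClosure ({u} : Set G) : Set G) → PEl q y → y ∈ Qv := by
  haveI := Fact.mk hS.hq
  set D := centralizer (normalClosure ({u} : Set G) : Set G) with hD
  haveI : D.Normal := by rw [hD]; infer_instance
  obtain ⟨Q, hQ⟩ := exists_sylow_le_cent (p := q) (H := centralizer ({v'} : Set G))
    (show ¬ q ∣ cs v' by rw [hv'm]; exact hS.q_dvd.2)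
  have hvQ : v' ∈ (Q : Subgroup G) :=
    Cfsg.Lib.ClassSizesNilpotent.mem_of_le_centralizer _ (pel_isPGroup hv') hQ
  have hrel : ¬ q ∣ ((Q : Subgroup G) ⊓ D).relIndex D := by
    intro hd
    rw [inf_relIndex_right] at hd
    have hN : (Q : Subgroup G) ≤ normalizer (D : Set G) := le_normalizer_of_normal
    have h1 := Cfsg.Lib.Coprime.card_sup_mul_card_inf hN
    have e1 := relIndex_mul_relIndex ⊥ ((Q : Subgroup G) ⊓ D) D bot_le inf_le_right
    rw [relIndex_bot_left, relIndex_bot_left, inf_relIndex_right] at e1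
    have e2 := relIndex_mul_relIndex ⊥ (Q : Subgroup G) (D ⊔ (Q : Subgroup G)) bot_le le_sup_right
    rw [relIndex_bot_left, relIndex_bot_left] at e2
    have h2 : (Q : Subgroup G).relIndex (D ⊔ (Q : Subgroup G)) = (Q : Subgroup G).relIndex D := by
      have hpos : 0 < Nat.card ((Q : Subgroup G) ⊓ D : Subgroup G) * Nat.card (Q : Subgroup G) :=
        Nat.mul_pos Nat.card_pos Nat.card_pos
      refine Nat.eq_of_mul_eq_mul_left hpos ?_
      rw [inf_comm] at h1
      calc Nat.card ((Q : Subgroup G) ⊓ D : Subgroup G) * Nat.card (Q : Subgroup G) *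
            (Q : Subgroup G).relIndex (D ⊔ (Q : Subgroup G))
          = Nat.card (D ⊔ (Q : Subgroup G) : Subgroup G) * Nat.card ((Q : Subgroup G) ⊓ D : Subgroup G) := by
            rw [← e2]; ring
        _ = Nat.card D * Nat.card (Q : Subgroup G) := h1
        _ = _ := by rw [← e1]; ring
    have h3 : (Q : Subgroup G).relIndex D ∣ (Q : Subgroup G).index :=
      h2 ▸ relIndex_dvd_index_of_le le_sup_right
    exact Q.not_dvd_index (hd.trans h3)
  refine ⟨(Q : Subgroup G) ⊓ D, Q.2.to_le inf_le_left, ⟨hvQ, hS.m_mem_D hv'm h⟩,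
    fun x hx => ⟨hS.D_le hx.2, hQ hx.1⟩, inf_le_right, hrel, fun y hyK hyD hy => ?_⟩
  by_contra hyn
  have h1 := fact_lt (p := q) inf_le_right hyD hyn hy fun z hz =>
    hS.kf_comm hS.hq hv' hv'm h hyK ⟨hS.D_le hz.2, hQ hz.1⟩
  have e1 := relIndex_mul_relIndex ⊥ ((Q : Subgroup G) ⊓ D) D bot_le inf_le_right
  rw [relIndex_bot_left, relIndex_bot_left] at e1
  rw [← e1, Nat.factorization_mul Nat.card_pos.ne' (fun h0 => hrel (by rw [h0]; exact dvd_zero q)),
    Finsupp.add_apply, Nat.factorization_eq_zero_of_not_dvd hrel] at h1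
  omega

theorem false : False := by
  haveI := Fact.mk hS.hr
  haveI := Fact.mk hS.hq
  set D := centralizer (normalClosure ({u} : Set G) : Set G) with hD
  haveI hDn : D.Normal := by rw [hD]; infer_instance
  set H := centralizer ({u} : Set G) with hH
  have hKi := hS.index_kf_m hS.hq hS.hv hS.hvm hS.v_mem
  -- a Sylow subgroup of `G` inside `H` through one of `C(u) ∩ C(v)`
  obtain ⟨R₀⟩ : Nonempty (Sylow r (Kf u v)) := inferInstance
  have hR₀H : (R₀ : Subgroup (Kf u v)).map (Kf u v).subtype ≤ H :=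
    (map_subtype_le _).trans inf_le_left
  obtain ⟨S₁, hS₁⟩ := ((R₀.2.map (Kf u v).subtype).comap_of_injective H.subtype
    H.subtype_injective).exists_le_sylow
  set S := (S₁ : Subgroup H).map H.subtype with hSdef
  have hSH : S ≤ H := map_subtype_le _
  have hSi : ¬ r ∣ S.index := by
    rw [hSdef, index_map_subtype]
    exact hS.hr.not_dvd_mul S₁.not_dvd_index (by
      rw [show H.index = n from hS.hun]; exact hS.r_not_n)
  have hSr : IsPGroup r S := S₁.2.map _
  have hR₀S : (R₀ : Subgroup (Kf u v)).map (Kf u v).subtype ≤ S := fun x hx =>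
    ⟨⟨x, hR₀H hx⟩, hS₁ hx, rfl⟩
  set A := S ⊓ Kf u v with hA
  obtain ⟨a, haA, haz⟩ : ∃ a ∈ A, a ∉ Zh u := by
    by_contra hcon
    push Not at hcon
    have h1 := card_dvd_of_le (show (R₀ : Subgroup (Kf u v)).map (Kf u v).subtype ≤ Zh u from
      fun x hx => hcon x ⟨hR₀S hx, map_subtype_le _ hx⟩)
    rw [card_map_of_injective (Kf u v).subtype_injective, R₀.card_eq_multiplicity] at h1
    exact absurd ((hS.hr.pow_dvd_iff_le_factorization Nat.card_pos.ne').mp h1)
      (not_le.mpr (hS.fact_zh_lt hS.hq hS.hv hS.hvm hS.v_mem))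
  have hAS : A < S := by
    refine lt_of_le_of_ne inf_le_left fun he => hSi ?_
    have h1 := index_dvd_of_le (he.ge.trans inf_le_right : S ≤ Kf u v)
    rw [hKi] at h1
    exact (hS.hrm.trans (Dvd.intro_left n rfl)).trans h1
  obtain ⟨g, hgS, hgn, hgA⟩ : ∃ g ∈ S, g ∈ normalizer (A : Set G) ∧ g ∉ A := by
    haveI := hSr.isNilpotent
    have h1 := Group.normalizerCondition_of_isNilpotent (G := S) (A.subgroupOf S)
      (lt_top_iff_ne_top.mpr fun ht => hAS.not_ge (subgroupOf_eq_top.mp ht))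
    obtain ⟨g, hg, hgA⟩ := SetLike.exists_of_lt h1
    refine ⟨g, g.2, ?_, hgA⟩
    refine mem_normalizer_fintype fun x hx => ?_
    exact mem_subgroupOf.mp ((mem_normalizer_iff.mp hg ⟨x, hAS.le hx⟩).mp hx)
  have hgH := hSH hgS
  have ha : PEl r a := pel_of_mem hSr haA.1
  have hgaA : g * a * g⁻¹ ∈ A := (mem_normalizer_iff.mp hgn a).mp haA
  have hgaz : g * a * g⁻¹ ∉ Zh u := fun h => haz (conj_mem_zh hgH h)
  have eA := (hS.kf_eq hS.hq hS.hv hS.hvm hS.v_mem ha (hSH haA.1) haz (mem_cent.mp haA.2.2)).1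
  have eA' := (hS.kf_eq hS.hq hS.hv hS.hvm hS.v_mem (pel_conj ha g) (hSH hgaA.1) hgaz
    (mem_cent.mp hgaA.2.2)).1
  have hgK : ∀ x ∈ Kf u v, g * x * g⁻¹ ∈ Kf u v := by
    intro x hx
    rw [← eA']
    have hxa : x ∈ Kf u a := eA.symm ▸ hx
    have h1 : g * x * g⁻¹ ∈ H := mul_mem (mul_mem hgH hx.1) (inv_mem hgH)
    refine ⟨h1, mem_cent.mpr ?_⟩
    exact (mem_cent.mp hxa.2).map (MulAut.conj g).toMonoidHom
  have hgz : g ∉ Zh u := fun h => hgA ⟨hgS, zh_le_kf hS.v_mem h⟩
  have hgr : PEl r g := pel_of_mem hSr hgS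
  obtain ⟨w, hw, hwm, hwH, hgw⟩ := hS.exists_M hgr hgH hgz
  obtain ⟨Qv, hQvp, hvQ, hQvK, hQvD, hQvi, hQvmax⟩ := hS.sylow_D hS.hv hS.hvm hS.v_mem
  obtain ⟨Qw, hQwp, hwQ, hQwK, hQwD, hQwi, -⟩ := hS.sylow_D hw hwm hwH
  -- `g` normalises `Qv` and centralises `Qw`
  have hgQv : g ∈ normalizer (Qv : Set G) := mem_normalizer_fintype fun x hx =>
    hQvmax _ (hgK x (hQvK hx)) (hDn.conj_mem x (hQvD hx) g) (pel_conj (pel_of_mem hQvp hx) g)
  have hgQw : ∀ x ∈ Qw, Commute g x := fun x hx =>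
    hS.kf_comm hS.hq hw hwm hwH ⟨hgH, mem_cent.mpr hgw⟩ (hQwK hx)
  obtain ⟨y, hyD, hy⟩ : ∃ y ∈ D, ∀ x ∈ Qv, y * x * y⁻¹ ∈ Qw := by
    let T₁ : Sylow q D := (hQvp.comap_of_injective D.subtype D.subtype_injective).toSylow hQvi
    let T₂ : Sylow q D := (hQwp.comap_of_injective D.subtype D.subtype_injective).toSylow hQwi
    obtain ⟨y, hy⟩ := MulAction.exists_smul_eq D T₁ T₂
    refine ⟨y, y.2, fun x hx => ?_⟩
    have h1 : y * (⟨x, hQvD hx⟩ : D) * y⁻¹ ∈ ((y • T₁ : Sylow q D) : Subgroup D) :=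
      ⟨⟨x, hQvD hx⟩, hx, rfl⟩
    rw [hy] at h1
    exact h1
  set g' := y⁻¹ * g * y with hg'
  have hg'Qv : ∀ x ∈ Qv, Commute g' x := fun x hx => by
    have h1 := (hgQw _ (hy x hx)).map (MulAut.conj y⁻¹).toMonoidHom
    simp only [MulEquiv.coe_toMonoidHom, MulAut.conj_apply, inv_inv] at h1
    simpa [hg', mul_assoc] using h1
  set X := normalizer (Qv : Set G) ⊓ (zpowers g ⊔ D) with hX
  have hgX : g ∈ X := ⟨hgQv, mem_sup_left (mem_zpowers g)⟩
  have hg'X : g' ∈ X := by
    refine ⟨(centralizer_le_normalizer _) (mem_centralizer_iff.mpr fun x hx => (hg'Qv x hx).eq.symm), ?_⟩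
    exact mul_mem (mul_mem (mem_sup_right (inv_mem hyD)) (mem_sup_left (mem_zpowers g)))
      (mem_sup_right hyD)
  obtain ⟨Sg, hSg⟩ := ((pel_isPGroup hgr).comap_of_injective X.subtype
    X.subtype_injective).exists_le_sylow
  obtain ⟨t, ht⟩ := exists_conj_mem hS.hr Sg.not_dvd_index (g := (⟨g', hg'X⟩ : X)) (by
    obtain ⟨k, hk⟩ := pel_conj hgr y⁻¹
    exact ⟨k, by rw [Subgroup.orderOf_mk, hg']; rwa [inv_inv] at hk⟩)
  set g'' := (t : G) * g' * (t : G)⁻¹ with hg''
  have hdS : (⟨g, hgX⟩ : X)⁻¹ * (t * ⟨g', hg'X⟩ * t⁻¹) ∈ (Sg : Subgroup X) :=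
    mul_mem (inv_mem (hSg (mem_zpowers g))) ht
  have hdr : PEl r (g⁻¹ * g'') := pel_of_mem (Sg.2.map X.subtype) ⟨_, hdS, rfl⟩
  have hdD : g⁻¹ * g'' ∈ D := by
    rw [← QuotientGroup.eq_one_iff (N := D)]
    obtain ⟨z, hz, d, hd, htd⟩ := Subgroup.mem_sup_of_normal_right.mp t.2.2
    obtain ⟨i, rfl⟩ := mem_zpowers_iff.mp hz
    have hy1 : (y : G ⧸ D) = 1 := (QuotientGroup.eq_one_iff y).mpr hyD
    have hd1 : (d : G ⧸ D) = 1 := (QuotientGroup.eq_one_iff d).mpr hd
    simp only [hg'', hg', ← htd, QuotientGroup.mk_mul, QuotientGroup.mk_inv, hy1, hd1,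
      QuotientGroup.mk_zpow, inv_one, one_mul, mul_one]
    group
  have hdz := hS.D_r hdr hdD
  have hg''v : Commute g'' v := by
    have htn : (t : G)⁻¹ * v * ((t : G)⁻¹)⁻¹ ∈ Qv :=
      (mem_normalizer_iff.mp (inv_mem t.2.1) v).mp hvQ
    have h1 := (hg'Qv _ htn).map (MulAut.conj (t : G)).toMonoidHom
    simp only [MulEquiv.coe_toMonoidHom, MulAut.conj_apply, inv_inv] at h1
    simpa [hg'', mul_assoc] using h1
  have hgv : Commute g v := by
    have h1 := hg''v.mul_left (commute_zh hdz hS.v_mem).inv_left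
    have e : g'' * (g⁻¹ * g'')⁻¹ = g := by group
    rwa [e] at h1
  exact hgA ⟨hgS, hgH, mem_cent.mpr hgv⟩

end Setup

/-- In the crossed case `m` has a unique prime divisor. -/
theorem Cross.single_prime {n m : ℕ} (hC : Cross G n m) :
    ∃ p : ℕ, p.Prime ∧ ∀ s : ℕ, s.Prime → s ∣ m → s = p := by
  obtain ⟨q, hq, v, hv, hvm⟩ := hC.hyp.swap.exists_N
  obtain ⟨p, hp, u, hu, hun, hcomm⟩ := hC.exists_comm hq hv hvm
  refine ⟨p, hp, fun s hs hsm => ?_⟩
  by_contra hne
  exact Setup.false (u := u) (v := v) ⟨hC, hp, hq, hs, hu, hun, hv, hvm, hcomm, hsm, hne⟩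

end Cfsg.Lib.FourSizes
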