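import Cfsg.Agent.ClassSize.FourSizes.Basic
import Cfsg.Agent.Components.PxQ

/-!
Class sizes `1, n, m, n * m`: every prime power element of class size `n` has its prime dividing `n`.
-/

set_option autoImplicit false
set_option linter.unusedSectionVars false
set_option linter.style.haveILetI false

namespace Cfsg.Lib.FourSizes

open Subgroup Cfsg Cfsg.Lib.ClassSize

universe u

variable {G : Type u} [Group G] [Finite G] {n m : ℕ}

/-- Prime power elements of class size `n` have their prime dividing `n`. -/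
def StraightN (G : Type u) [Group G] (n : ℕ) : Prop :=
  ∀ p : ℕ, p.Prime → ∀ a : G, PEl p a → cs a = n → p ∣ n

namespace Hyp

/-- The centraliser of a primary element of class size `n` in the straight case. -/
theorem straight_struct (hT : Hyp G n m) (hN : StraightN G n) {p : ℕ} (hp : p.Prime) {u : G}
    (hu : PEl p u) (hun : cs u = n) (hpn : p ∣ n) :
    ∃ r : ℕ, r.Prime ∧ (∀ s : ℕ, s.Prime → s ∣ m → s = r) ∧ ∃ Pu R : Subgroup G,
      Pu ≤ centralizer ({u} : Set G) ∧ IsPGroup p Pu ∧ IsPGroup r R ∧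
      (∀ g ∈ centralizer ({u} : Set G), PEl p g → g ∈ Pu) ∧
      (∀ g ∈ centralizer ({u} : Set G), PEl r g → g ∈ R) ∧
      (∀ g ∈ centralizer ({u} : Set G), ∀ x ∈ Pu, g * x * g⁻¹ ∈ Pu) ∧
      (∀ g ∈ centralizer ({u} : Set G), ∀ x ∈ R, g * x * g⁻¹ ∈ R) ∧
      ∀ x ∈ Pu, ∀ y ∈ R, Commute x y := by
  obtain ⟨P, L, hPC, hLC, hPp, hLp, hPel, hLel, hPn, hPL, hdec, hdich⟩ := hT.split hp hu hun hpn
  rcases hdich with habel | ⟨r, b, hr, hb, -, R, hRL, hRr, hRel, hRn⟩
  · exfalso
    obtain ⟨s, hs, hsm⟩ := Nat.exists_prime_and_dvd hT.m_lt.ne'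
    haveI := Fact.mk hs
    have hsn : ¬ s ∣ n := fun h => hs.ne_one (Nat.eq_one_of_dvd_coprimes hT.cop h hsm)
    have hsp : s ≠ p := fun h => hsn (h ▸ hpn)
    obtain ⟨S, hS⟩ := exists_sylow_le_cent (H := centralizer ({u} : Set G))
      (show ¬ s ∣ cs u by rw [hun]; exact hsn)
    -- every element of `S` is central
    have hSc : ∀ c ∈ (S : Subgroup G), c ∈ center G := by
      intro c hc
      have hcs : PEl s c := pel_of_mem S.2 hc
      have hcL : c ∈ L := hLel c (hS hc) (pel_coprime_prime hs hp hsp hcs)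
      have hle : centralizer ({u} : Set G) ≤ centralizer ({c} : Set G) := by
        intro g hg
        obtain ⟨x, hx, y, hy, rfl⟩ := hdec g hg
        exact mem_cent.mpr ((hPL x hx c hcL).mul_left (habel y hy c hcL))
      rcases hT.eq_of_dvd_n (x := c) (hun ▸ index_dvd_of_le hle) with h | h
      · exact cs_eq_one_iff.mp h
      · exact absurd (hN s hs c hcs h) hsn
    obtain ⟨x, hx⟩ := hT.exm
    have hle : (S : Subgroup G) ≤ centralizer ({x} : Set G) := fun c hc =>
      mem_cent.mpr (Subgroup.mem_center_iff.mp (hSc c hc) x).symm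
    exact S.not_dvd_index ((hx ▸ hsm : s ∣ cs x).trans (index_dvd_of_le hle))
  · haveI := Fact.mk hr
    refine ⟨r, hr, fun s hs hsm => (Nat.prime_dvd_prime_iff_eq hs hr).mp (hs.dvd_of_dvd_pow (hb ▸ hsm)),
      P, R, hPC, hPp, hRr, hPel, fun g hg hgr => hRel g (hLel g hg ?_) hgr, hPn, hRn,
      fun x hx y hy => hPL x hx y (hRL hy)⟩
    refine pel_coprime_prime hr hp (fun h => ?_) hgr
    subst h
    have : r ∣ m := hb ▸ dvd_pow_self r (fun hb0 => by
      subst hb0; rw [pow_zero] at hb; have := hT.m_lt; omega)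
    exact hp.ne_one (Nat.eq_one_of_dvd_coprimes hT.cop hpn this)

/-- Elements of order a power of the other prime centralise `O_p(G)`. -/
theorem straight_cent_core (hT : Hyp G n m) (hN : StraightN G n) {p r : ℕ} (hp : p.Prime)
    (hr : r.Prime) (hpr : p ≠ r) {u : G} (hu : PEl p u) (hun : cs u = n) (hrm : r ∣ m) {y : G}
    (hy : PEl r y) : ∀ x ∈ pCore p G, Commute y x := by
  haveI := Fact.mk hp
  haveI := Fact.mk hr
  obtain ⟨r', hr', hm', Pu, R, hPC, hPp, -, hPel, hRel, -, -, hPR⟩ :=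
    hT.straight_struct hN hp hu hun (hN p hp u hu hun)
  obtain rfl := hm' r hr hrm
  have hrn : ¬ r ∣ cs u := fun h => hr.ne_one (Nat.eq_one_of_dvd_coprimes hT.cop (hun ▸ h) hrm)
  obtain ⟨g, hg⟩ := exists_conj_mem hr hrn hy
  have huP : u ∈ Pu := hPel u (mem_cent.mpr (Commute.refl u)) hu
  have hy' : g * y * g⁻¹ ∈ R := hRel _ hg (pel_conj hy g)
  have hkey : pCore p G ≤ centralizer ({g * y * g⁻¹} : Set G) := by
    refine Cfsg.Lib.Components.pxq_element (p := p) (pel_coprime_prime hr hp hpr.symm (pel_conj hy g))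
      hPp (mem_centralizer_iff.mpr fun x hx => (hPR x hx _ hy').eq) _
      (Cfsg.Lib.Components.isPGroup_pCore p) ?_ ?_ ?_
    · rw [normalizer_eq_top]; exact le_top
    · rw [normalizer_eq_top]; exact mem_top _
    · rintro x ⟨hx1, hx2⟩
      have hxC : x ∈ centralizer ({u} : Set G) := mem_cent.mpr (mem_centralizer_iff.mp hx2 u huP).symm
      exact mem_cent.mpr (hPR x (hPel x hxC (pel_of_mem (Cfsg.Lib.Components.isPGroup_pCore p) hx1)) _ hy')
  intro x hx
  have h1 := mem_cent.mp (hkey ((inferInstance : (pCore p G).Normal).conj_mem x hx g))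
  have h2 := h1.map (MulAut.conj g⁻¹).toMonoidHom
  simp only [MulEquiv.coe_toMonoidHom, MulAut.conj_apply, inv_inv] at h2
  simpa [mul_assoc] using h2.symm

theorem straight_two_primes (hT : Hyp G n m) (hN : StraightN G n) (hM : StraightN G m) :
    ∃ p r : ℕ, p.Prime ∧ r.Prime ∧ p ≠ r ∧ IsPrimePow n ∧ IsPrimePow m ∧ p ∣ n ∧ r ∣ m ∧
      TwoPrimes G p r ∧ (∃ u : G, PEl p u ∧ cs u = n) ∧ ∃ v : G, PEl r v ∧ cs v = m := by
  obtain ⟨p, hp, u, hu, hun⟩ := hT.exists_N
  obtain ⟨r, hr, v, hv, hvm⟩ := hT.swap.exists_N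
  have hpn := hN p hp u hu hun
  have hrm := hM r hr v hv hvm
  obtain ⟨r', -, hm', -⟩ := hT.straight_struct hN hp hu hun hpn
  obtain ⟨p', -, hn', -⟩ := hT.swap.straight_struct hM hr hv hvm hrm
  obtain rfl := hm' r hr hrm
  obtain rfl := hn' p hp hpn
  have hpr : p ≠ r := fun h => hp.ne_one (Nat.eq_one_of_dvd_coprimes hT.cop hpn (h ▸ hrm))
  refine ⟨p, r, hp, hr, hpr,
    isPrimePow_iff_unique_prime_dvd.mpr ⟨p, ⟨hp, hpn⟩, fun s hs => hn' s hs.1 hs.2⟩,
    isPrimePow_iff_unique_prime_dvd.mpr ⟨r, ⟨hr, hrm⟩, fun s hs => hm' s hs.1 hs.2⟩,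
    hpn, hrm, fun s hs g hg hgc => ?_, ⟨u, hu, hun⟩, ⟨v, hv, hvm⟩⟩
  rcases hT.prime_dvd hs hg hgc with h | h
  · exact Or.inl (hn' s hs h)
  · exact Or.inr (hm' s hs h)

/-- Elements centralising `O_p(G)`, of order prime to `p`, form a subgroup. -/
theorem core_cent_complement {p r : ℕ} (hp : p.Prime) (hr : r.Prime) (hpr : p ≠ r)
    (h2 : TwoPrimes G p r)
    (hpc : ∀ x : G, PEl p x → ∀ z ∈ pCore r G, Commute x z) :
    ∃ H : Subgroup G, (Nat.card H).Coprime p ∧
      ∀ g : G, (∀ z ∈ pCore p G, Commute g z) → (orderOf g).Coprime p → g ∈ H := by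
  haveI := Fact.mk hp
  set M := centralizer (pCore p G : Set G) with hM
  have hcen : ∀ x ∈ M, PEl p x → ∀ g ∈ M, Commute g x := fun x hx hxp g hg => by
    have hxF : x ∈ fittingSubgroup G := h2.mem_fitting hp hr hpr
      (fun z hz => (mem_centralizer_iff.mp hx z hz).symm) (hpc x hxp)
    exact (mem_centralizer_iff.mp hg x (mem_pCore_of_fitting hxp hxF)).symm
  obtain ⟨P⟩ : Nonempty (Sylow p M) := inferInstance
  have hPc : ∀ y ∈ (P : Subgroup M), y ∈ center M := fun y hy =>
    Subgroup.mem_center_iff.mpr fun g => Subtype.ext (hcen y y.2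
      (pel_of_mem (P.2.map M.subtype) ⟨y, hy, rfl⟩) g g.2).eq
  obtain ⟨hPn, H, hHn, hHp, hinf, hsup⟩ := Cfsg.Agent.S4035.result (p := p) (fun x hx hd => by
    have e : (ConjClasses.mk x).carrier.ncard = (centralizer ({x} : Set M)).index := by
      rw [← Cfsg.Lib.Chars.card_isConj, ← Nat.card_coe_set_eq]
      exact Nat.card_congr (Equiv.subtypeEquivRight fun y =>
        ConjClasses.mem_carrier_iff_mk_eq.trans
          (ConjClasses.mk_eq_mk_iff_isConj.trans ⟨IsConj.symm, IsConj.symm⟩))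
    rw [e] at hd
    exact P.not_dvd_index (hd.trans (index_dvd_of_le fun y hy =>
      mem_cent.mpr (Subgroup.mem_center_iff.mp (hPc y hy) x).symm))) P
  refine ⟨H.map M.subtype, ?_, fun g hg hgo => ?_⟩
  · rw [card_map_of_injective M.subtype_injective]
    exact (hp.coprime_iff_not_dvd.mpr hHp).symm
  · have hgM : g ∈ M := mem_centralizer_iff.mpr fun z hz => (hg z hz).symm.eq
    refine ⟨⟨g, hgM⟩, ?_, rfl⟩
    haveI := hHn
    have hq : IsPGroup p (M ⧸ H) := by
      intro z
      obtain ⟨z, rfl⟩ := QuotientGroup.mk'_surjective H z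
      obtain ⟨c, hc, d, hd, rfl⟩ := Subgroup.mem_sup_of_normal_right.mp (hsup.ge (mem_top z))
      obtain ⟨k, hk⟩ := P.2 ⟨c, hc⟩
      refine ⟨k, ?_⟩
      have hd' : QuotientGroup.mk' H d = 1 := (QuotientGroup.eq_one_iff d).mpr hd
      have hk' : c ^ p ^ k = 1 := congrArg Subtype.val hk
      rw [map_mul, hd', mul_one, ← map_pow, hk', map_one]
    exact Cfsg.Lib.Transfer.mem_of_isPGroup_quotient_of_coprime H hq (by rwa [Subgroup.orderOf_mk])

theorem straight (hT : Hyp G n m) (hN : StraightN G n) (hM : StraightN G m) :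
    Group.IsNilpotent G ∧ IsPrimePow n ∧ IsPrimePow m := by
  obtain ⟨p, r, hp, hr, hpr, hnpp, hmpp, hpn, hrm, h2, ⟨u, hu, hun⟩, ⟨v, hv, hvm⟩⟩ :=
    hT.straight_two_primes hN hM
  have hA : ∀ y : G, PEl r y → ∀ x ∈ pCore p G, Commute y x := fun y hy =>
    hT.straight_cent_core hN hp hr hpr hu hun hrm hy
  have hB : ∀ y : G, PEl p y → ∀ x ∈ pCore r G, Commute y x := fun y hy =>
    hT.swap.straight_cent_core hM hr hp hpr.symm hv hvm hpn hy
  obtain ⟨H, hHp, hH⟩ := core_cent_complement hp hr hpr h2 hB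
  obtain ⟨K, hKr, hK⟩ := core_cent_complement hr hp hpr.symm h2.swap hA
  have hcomm : ∀ x y : G, PEl p x → PEl r y → Commute x y := by
    intro x y hx hy
    set c := x * y * x⁻¹ * y⁻¹ with hc
    have hcH : c ∈ H := mul_mem (hH _ (hA _ (pel_conj hy x))
      (pel_coprime_prime hr hp hpr.symm (pel_conj hy x)))
      (inv_mem (hH _ (hA _ hy) (pel_coprime_prime hr hp hpr.symm hy)))
    have hcK : c ∈ K := by
      have : c = x * (y * x⁻¹ * y⁻¹) := by rw [hc]; group
      rw [this]
      have hx' : PEl p x⁻¹ := by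
        obtain ⟨k, hk⟩ := hx
        exact ⟨k, by rw [orderOf_inv, hk]⟩
      exact mul_mem (hK _ (hB _ hx) (pel_coprime_prime hp hr hpr hx))
        (hK _ (hB _ (pel_conj hx' y)) (pel_coprime_prime hp hr hpr (pel_conj hx' y)))
    have hcc : c ∈ center G := mem_of_parts fun s hs g hg hgs => by
      by_contra hgc
      have hgH : g ∈ H := zpowers_le.mpr hcH hg
      have hgK : g ∈ K := zpowers_le.mpr hcK hg
      refine hgc ?_
      rcases h2 s hs g hgs hgc with e | e <;> subst e
      · haveI := Fact.mk hp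
        have : orderOf g = 1 := by
          obtain ⟨k, hk⟩ := hgs
          exact Nat.eq_one_of_dvd_coprimes ((Nat.Coprime.pow_right k hHp))
            (Subgroup.orderOf_dvd_natCard H hgH) (dvd_of_eq hk)
        rw [orderOf_eq_one_iff.mp this]; exact one_mem _
      · haveI := Fact.mk hr
        have : orderOf g = 1 := by
          obtain ⟨k, hk⟩ := hgs
          exact Nat.eq_one_of_dvd_coprimes ((Nat.Coprime.pow_right k hKr))
            (Subgroup.orderOf_dvd_natCard K hgK) (dvd_of_eq hk)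
        rw [orderOf_eq_one_iff.mp this]; exact one_mem _
    have hcy : Commute c y := (Subgroup.mem_center_iff.mp hcc y).symm
    have hcx : Commute c x := (Subgroup.mem_center_iff.mp hcc x).symm
    have e1 : x * y * x⁻¹ = c * y := by rw [hc]; group
    have h1 : c ^ orderOf y = 1 := by
      have := congrArg (· ^ orderOf y) e1
      simpa [conj_pow, hcy.mul_pow, pow_orderOf_eq_one] using this.symm
    have e2 : y * x * y⁻¹ = c⁻¹ * x := by rw [hc]; group
    have h3 : c ^ orderOf x = 1 := by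
      have := congrArg (· ^ orderOf x) e2
      simpa [conj_pow, hcx.inv_left.mul_pow, pow_orderOf_eq_one] using this.symm
    have hc1 : c = 1 := by
      have := pow_gcd_eq_one.mpr ⟨h3, h1⟩
      rwa [(pel_coprime hp hr hpr hx hy).gcd_eq_one, pow_one] at this
    rw [hc1, one_mul] at e1
    exact mul_inv_eq_iff_eq_mul.mp e1
  refine ⟨?_, hnpp, hmpp⟩
  -- coprime prime power elements commute
  have hall : ∀ s t : ℕ, s.Prime → t.Prime → s ≠ t → ∀ x y : G, PEl s x → PEl t y → Commute x y := by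
    intro s t hs ht hst x y hx hy
    by_cases hxc : x ∈ center G
    · exact (Subgroup.mem_center_iff.mp hxc y).symm
    by_cases hyc : y ∈ center G
    · exact Subgroup.mem_center_iff.mp hyc x
    rcases h2 s hs x hx hxc with rfl | rfl <;> rcases h2 t ht y hy hyc with rfl | rfl
    · exact absurd rfl hst
    · exact hcomm x y hx hy
    · exact (hcomm y x hy hx).symm
    · exact absurd rfl hst
  refine (Group.isNilpotent_of_finite_tfae.out 0 3).mpr fun s hs S => ?_
  rw [← normalizer_eq_top_iff]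
  haveI := hs
  rw [← index_eq_one]
  by_contra hne
  obtain ⟨t, ht, htd⟩ := Nat.exists_prime_and_dvd hne
  haveI := Fact.mk ht
  rcases eq_or_ne t s with rfl | hts
  · exact S.not_dvd_index (htd.trans (index_dvd_of_le le_normalizer))
  · obtain ⟨T⟩ : Nonempty (Sylow t G) := inferInstance
    exact T.not_dvd_index (htd.trans (index_dvd_of_le fun y hy => centralizer_le_normalizer _
      (mem_centralizer_iff.mpr fun x hx =>
        (hall s t hs.out ht (Ne.symm hts) x y (pel_of_mem S.2 hx) (pel_of_mem T.2 hy)).eq)))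

end Hyp

end Cfsg.Lib.FourSizes
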