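import Cfsg.Agent.ClassSize.FourSizes.Crossed
import Cfsg.Agent.Coprime.Sylow
import Cfsg.Agent.Coprime.SolvableBasics
import Cfsg.Agent.Components.PxQ
import Cfsg.Agent.SolvStruct.ClassSizesNilpotent

/-!
Class sizes `1, n, m, n * m`, crossed case with two primes: contradiction.
-/

set_option autoImplicit false
set_option linter.unusedSectionVars false
set_option linter.style.haveILetI false

namespace Cfsg.Lib.FourSizes

open Subgroup Cfsg Cfsg.Lib.ClassSize

universe u

variable {G : Type u} [Group G] [Finite G]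

/-- The crossed case with `n` a power of `q` and `m` a power of `p`. -/
structure Pair (G : Type u) [Group G] (n m p q : ℕ) : Prop where
  cross : Cross G n m
  hp : p.Prime
  hq : q.Prime
  hn : ∀ s : ℕ, s.Prime → s ∣ n → s = q
  hm : ∀ s : ℕ, s.Prime → s ∣ m → s = p

namespace Pair

variable {n m p q : ℕ} (hS : Pair G n m p q)
include hS

theorem swap : Pair G m n q p := ⟨hS.cross.swap, hS.hq, hS.hp, hS.hm, hS.hn⟩

theorem p_dvd : p ∣ m := by
  obtain ⟨s, hs, hsm⟩ := Nat.exists_prime_and_dvd hS.cross.hyp.m_lt.ne'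
  exact hS.hm s hs hsm ▸ hsm

theorem p_not : ¬ p ∣ n := fun h =>
  hS.hp.ne_one (Nat.eq_one_of_dvd_coprimes hS.cross.hyp.cop h hS.p_dvd)

theorem p_ne_q : p ≠ q := fun h => hS.p_not (h ▸ hS.swap.p_dvd)

theorem two : TwoPrimes G p q := fun s hs g hg hgc =>
  (hS.cross.hyp.prime_dvd hs hg hgc).elim (fun h => Or.inr (hS.hn s hs h))
    fun h => Or.inl (hS.hm s hs h)

theorem solvable : Group.IsSolvable G := hS.two.solvable hS.hp hS.hq hS.p_ne_q

theorem not_M {a : G} (ha : PEl p a) : cs a ≠ m := fun h => hS.cross.crossM p hS.hp a ha h hS.p_dvd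

theorem exists_N : ∃ u : G, PEl p u ∧ cs u = n := by
  obtain ⟨s, hs, u, hu, hun⟩ := hS.cross.hyp.exists_N
  obtain rfl := hS.hm s hs (hS.cross.prime_N hs hu hun).1
  exact ⟨u, hu, hun⟩

theorem exists_comm {v : G} (hv : PEl q v) (hvm : cs v = m) :
    ∃ u : G, PEl p u ∧ cs u = n ∧ Commute u v := by
  obtain ⟨s, hs, u, hu, hun, hc⟩ := hS.cross.exists_comm hS.hq hv hvm
  obtain rfl := hS.hm s hs (hS.cross.prime_N hs hu hun).1
  exact ⟨u, hu, hun, hc⟩

theorem pCore_le_cent {a : G} (han : cs a = n) : pCore p G ≤ centralizer ({a} : Set G) := by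
  haveI := Fact.mk hS.hp
  obtain ⟨P, hP⟩ := exists_sylow_le_cent (p := p) (H := centralizer ({a} : Set G))
    (show ¬ p ∣ cs a by rw [han]; exact hS.p_not)
  exact (Cfsg.Lib.Coprime.pCore_le_sylow p P).trans hP

theorem mem_pCore_of_cent {a : G} (ha : PEl p a) (han : cs a = n)
    (h : ∀ y ∈ pCore q G, Commute a y) : a ∈ pCore p G :=
  haveI := Fact.mk hS.hp
  mem_pCore_of_fitting ha (hS.two.mem_fitting hS.hp hS.hq hS.p_ne_q
    (fun _ hy => (mem_cent.mp (hS.pCore_le_cent han hy)).symm) h)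

/-- An element of class size `n * m` in `O_q(G)` gives one of class size `n` in `O_p(G)`. -/
theorem core_of_L {j : G} (hj : j ∈ pCore q G) (hjnm : cs j = n * m) :
    ∃ u : G, PEl p u ∧ cs u = n ∧ u ∈ pCore p G := by
  haveI := Fact.mk hS.hp
  haveI := Fact.mk hS.hq
  have hjq : PEl q j := pel_of_mem (Cfsg.Lib.Components.isPGroup_pCore q) hj
  obtain ⟨v, hv, hvm⟩ := hS.swap.exists_N
  obtain ⟨u, hu, hun, huv⟩ := hS.exists_comm hv hvm
  have hlt := fact_lt (p := p) (Z := center G)
    (K := centralizer ({u} : Set G) ⊓ centralizer ({v} : Set G))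
    (fun z hz => ⟨mem_cent.mpr (Subgroup.mem_center_iff.mp hz u).symm,
      mem_cent.mpr (Subgroup.mem_center_iff.mp hz v).symm⟩)
    ⟨mem_cent.mpr (Commute.refl u), mem_cent.mpr huv⟩ (hS.cross.hyp.not_center_of_eq_n hun) hu
    fun z hz => Subgroup.mem_center_iff.mp hz u
  have e1 := fact_index (p := p) (centralizer ({u} : Set G) ⊓ centralizer ({v} : Set G))
  have e2 := fact_index (p := p) (centralizer ({j} : Set G))
  rw [hS.cross.hyp.inter_index hun hvm] at e1
  rw [show (centralizer ({j} : Set G)).index = n * m from hjnm] at e2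
  obtain ⟨a, haj, hac, ha⟩ := exists_pel (p := p) (Z := center G) (K := centralizer ({j} : Set G))
    (by omega)
  obtain ⟨u₀, hu₀, hu₀n, hu₀j⟩ : ∃ u₀, PEl p u₀ ∧ cs u₀ = n ∧ Commute u₀ j := by
    rcases hS.cross.hyp.cases a with h | h | h | h
    · exact absurd (cs_eq_one_iff.mp h) hac
    · exact ⟨a, ha, h, mem_cent.mp haj⟩
    · exact absurd h (hS.not_M ha)
    · have hco := pel_coprime hS.hp hS.hq hS.p_ne_q ha hjq
      have h1 := cent_mul_of_coprime (mem_cent.mp haj) hco
      have h2 := hS.cross.hyp.cent_eq_of_le (K := centralizer ({a} : Set G)) h (y := a * j)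
        (h1 ▸ inf_le_left)
      obtain ⟨g, hg⟩ := exists_conj_mem hS.hp (show ¬ p ∣ cs u by rw [hun]; exact hS.p_not) ha
      have hu' : g⁻¹ * u * g ∈ centralizer ({a} : Set G) := by
        have h3 := ((mem_cent.mp hg).symm).map (MulAut.conj g⁻¹).toMonoidHom
        simp only [MulEquiv.coe_toMonoidHom, MulAut.conj_apply, inv_inv] at h3
        exact mem_cent.mpr (by simpa [mul_assoc] using h3)
      refine ⟨g⁻¹ * u * g, by simpa using pel_conj hu g⁻¹, by simpa [hun] using cs_conj u g⁻¹, ?_⟩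
      exact mem_cent.mp (h1 ▸ h2.symm ▸ hu' : g⁻¹ * u * g ∈ centralizer ({a} : Set G) ⊓ _).2
  refine ⟨u₀, hu₀, hu₀n, hS.mem_pCore_of_cent hu₀ hu₀n fun y hy => ?_⟩
  have hco := pel_coprime hS.hq hS.hp hS.p_ne_q.symm hjq hu₀
  have h1 := cent_mul_of_coprime hu₀j.symm hco
  have h2 := hS.cross.hyp.cent_eq_of_le (K := centralizer ({j} : Set G)) hjnm (y := j * u₀)
    (h1 ▸ inf_le_left)
  refine (mem_cent.mp (Cfsg.Lib.Components.pxq_element (p := q) (x := u₀)
    (pel_coprime_prime hS.hp hS.hq hS.p_ne_q hu₀) (pel_isPGroup hjq) ?_ (pCore q G)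
    (Cfsg.Lib.Components.isPGroup_pCore q) ?_ ?_ ?_ hy)).symm
  · refine mem_centralizer_iff.mpr fun z hz => ?_
    obtain ⟨i, rfl⟩ := mem_zpowers_iff.mp hz
    exact (hu₀j.symm.zpow_left i).eq
  · rw [normalizer_eq_top]; exact le_top
  · rw [normalizer_eq_top]; exact mem_top _
  · rintro x ⟨-, hx⟩
    have hxj : x ∈ centralizer ({j} : Set G) :=
      mem_cent.mpr (mem_centralizer_iff.mp hx j (mem_zpowers j)).symm
    exact (h1 ▸ h2.symm ▸ hxj : x ∈ centralizer ({j} : Set G) ⊓ _).2

theorem core_comm (h : ∀ j ∈ pCore q G, cs j ≠ n * m) :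
    ∀ x ∈ pCore q G, ∀ y ∈ pCore q G, Commute x y := by
  haveI := Fact.mk hS.hq
  intro x hx y hy
  have hxq : PEl q x := pel_of_mem (Cfsg.Lib.Components.isPGroup_pCore q) hx
  rcases hS.cross.hyp.cases x with h1 | h1 | h1 | h1
  · exact (Subgroup.mem_center_iff.mp (cs_eq_one_iff.mp h1) y).symm
  · exact absurd hS.swap.p_dvd (hS.cross.crossN q hS.hq x hxq h1)
  · exact (mem_cent.mp (hS.swap.pCore_le_cent h1 hy)).symm
  · exact absurd h1 (h x hx)

/-- Sylow `p`-subgroups are abelian if `O_q(G)` contains an element of class size `m`. -/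
theorem sylow_comm {v : G} (hvJ : v ∈ pCore q G) (hvm : cs v = m) (P : Sylow p G) :
    ∀ x ∈ (P : Subgroup G), ∀ y ∈ (P : Subgroup G), Commute x y := by
  haveI := Fact.mk hS.hp
  haveI := Fact.mk hS.hq
  haveI := hS.solvable
  have hv : PEl q v := pel_of_mem (Cfsg.Lib.Components.isPGroup_pCore q) hvJ
  obtain ⟨u, hu, hun, huv⟩ := hS.exists_comm hv hvm
  set W := normalClosure ({v} : Set G) with hW
  have hWJ : W ≤ pCore q G := normalClosure_le_normal (Set.singleton_subset_iff.mpr hvJ)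
  have hWu : ∀ g : G, W ≤ centralizer ({g * u * g⁻¹} : Set G) := fun g => by
    refine (closure_le _).mpr fun x hx => ?_
    obtain ⟨b, hb, hba⟩ := Group.mem_conjugatesOfSet_iff.mp hx
    rw [Set.mem_singleton_iff] at hb
    subst hb
    obtain ⟨k, rfl⟩ := isConj_iff.mp hba
    exact mem_cent.mpr (hS.cross.hyp.commute_all hun hvm huv g k).symm
  -- elements of class size `n * m` centralise `W`
  have hL : ∀ a : G, PEl p a → cs a = n * m → W ≤ centralizer ({a} : Set G) := by
    intro a ha han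
    obtain ⟨g, hg⟩ := exists_conj_mem hS.hp (show ¬ p ∣ cs u by rw [hun]; exact hS.p_not) ha
    set u' := g⁻¹ * u * g⁻¹⁻¹ with hu'
    have hu'a : Commute u' a := by
      have h1 := ((mem_cent.mp hg).symm).map (MulAut.conj g⁻¹).toMonoidHom
      simp only [MulEquiv.coe_toMonoidHom, MulAut.conj_apply, inv_inv] at h1
      simpa [hu', mul_assoc] using h1
    obtain ⟨S⟩ : Nonempty (Sylow q (centralizer ({a} : Set G))) := inferInstance
    set S' := (S : Subgroup (centralizer ({a} : Set G))).map (centralizer ({a} : Set G)).subtype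
    have hS'u : S' ≤ centralizer ({u'} : Set G) := by
      intro b hb
      have hba : Commute a b := (mem_cent.mp (map_subtype_le _ hb)).symm
      have h1 := cent_mul_of_coprime hba (pel_coprime hS.hp hS.hq hS.p_ne_q ha (pel_of_mem (S.2.map _) hb))
      have h2 := hS.cross.hyp.cent_eq_of_le (K := centralizer ({a} : Set G)) han (y := a * b)
        (h1 ▸ inf_le_left)
      exact mem_cent.mpr (mem_cent.mp (h1 ▸ h2.symm ▸ mem_cent.mpr hu'a :
        u' ∈ centralizer ({a} : Set G) ⊓ _).2).symm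
    have hT : IsPGroup q (S' ⊔ W : Subgroup G) :=
      (S.2.map _).to_sup_of_normal_right ((Cfsg.Lib.Components.isPGroup_pCore q).to_le hWJ)
    obtain ⟨i, hi⟩ := IsPGroup.iff_card.mp hT
    have hle : (S' ⊔ W : Subgroup G) ≤ centralizer ({u'} : Set G) := sup_le hS'u (hWu g⁻¹)
    have hi' := (hS.hq.pow_dvd_iff_le_factorization Nat.card_pos.ne').mp (hi ▸ card_dvd_of_le hle)
    have e1 := fact_index (p := q) (centralizer ({a} : Set G))
    have e2 := fact_index (p := q) (centralizer ({u'} : Set G))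
    rw [show (centralizer ({a} : Set G)).index = n * m from han,
      Nat.factorization_mul (zero_lt_one.trans hS.cross.hyp.n_lt).ne'
        (zero_lt_one.trans hS.cross.hyp.m_lt).ne', Finsupp.add_apply,
      Nat.factorization_eq_zero_of_not_dvd hS.swap.p_not] at e1
    rw [show (centralizer ({u'} : Set G)).index = n by
      rw [← hun]; exact cs_conj u g⁻¹] at e2
    have heq : S' = S' ⊔ W := by
      refine eq_of_le_of_card_ge le_sup_left ?_
      rw [hi, show Nat.card S' = _ from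
        card_map_of_injective (centralizer ({a} : Set G)).subtype_injective]
      rw [S.card_eq_multiplicity]
      exact Nat.pow_le_pow_right hS.hq.pos (by omega)
    exact le_sup_right.trans (heq.ge.trans (map_subtype_le _))
  -- elements outside `C(W)`
  set M₀ := pPrimeCore p G with hM₀
  set π := QuotientGroup.mk' M₀ with hπ
  have hout : ∀ a ∈ (P : Subgroup G), a ∉ centralizer (W : Set G) →
      π a ∈ centralizer (pCore p (G ⧸ M₀) : Set (G ⧸ M₀)) := by
    intro a ha haW
    have hap := pel_of_mem P.2 ha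
    rcases hS.cross.hyp.cases a with h | h | h | h
    · exact absurd (mem_centralizer_iff.mpr fun w _ => Subgroup.mem_center_iff.mp (cs_eq_one_iff.mp h) w) haW
    · obtain ⟨P', hP'⟩ := exists_sylow_le_cent (p := p) (H := centralizer ({a} : Set G))
        (show ¬ p ∣ cs a by rw [h]; exact hS.p_not)
      refine mem_centralizer_iff.mpr fun y hy => ?_
      obtain ⟨b, hb, rfl⟩ := Cfsg.Lib.Coprime.pCore_le_sylow p
        (P'.mapSurjective (QuotientGroup.mk'_surjective M₀)) hy
      rw [← map_mul, ← map_mul, (mem_cent.mp (hP' hb)).eq]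
    · exact absurd h (hS.not_M hap)
    · exact absurd (mem_centralizer_iff.mpr fun w hw => (mem_cent.mp (hL a hap h hw)).eq) haW
  obtain ⟨a₀, ha₀, ha₀W⟩ : ∃ a ∈ (P : Subgroup G), a ∉ centralizer (W : Set G) := by
    by_contra hcon
    push Not at hcon
    have hle : (P : Subgroup G) ≤ centralizer ({v} : Set G) := fun a ha =>
      mem_cent.mpr ((mem_centralizer_iff.mp (hcon a ha) v (subset_normalClosure rfl)).symm)
    exact P.not_dvd_index ((hvm ▸ hS.p_dvd : p ∣ cs v).trans (index_dvd_of_le hle))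
  have hall : ∀ a ∈ (P : Subgroup G), π a ∈ pCore p (G ⧸ M₀) := by
    intro a ha
    refine Cfsg.Lib.Coprime.centralizer_pCore_le p Cfsg.Lib.Coprime.pPrimeCore_quotient_eq_bot ?_
    by_cases haW : a ∈ centralizer (W : Set G)
    · have h1 : a₀ * a ∉ centralizer (W : Set G) := fun h => ha₀W (by
        simpa using mul_mem h (inv_mem haW))
      have h2 := mul_mem (inv_mem (hout a₀ ha₀ ha₀W)) (hout _ (mul_mem ha₀ ha) h1)
      simpa [mul_assoc] using h2
    · exact hout a ha haW
  have hcc : ∀ a ∈ (P : Subgroup G), ∀ b ∈ (P : Subgroup G), π a * π b = π b * π a := by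
    intro a ha b hb
    by_cases haW : a ∈ centralizer (W : Set G)
    · have h1 : a₀ * a ∉ centralizer (W : Set G) := fun h => ha₀W (by
        simpa using mul_mem h (inv_mem haW))
      have h2 := mul_mem (inv_mem (hout a₀ ha₀ ha₀W)) (hout _ (mul_mem ha₀ ha) h1)
      have e : (π a₀)⁻¹ * π (a₀ * a) = π a := by rw [map_mul, inv_mul_cancel_left]
      rw [e] at h2
      exact (mem_centralizer_iff.mp h2 _ (hall b hb)).symm
    · exact (mem_centralizer_iff.mp (hout a ha haW) _ (hall b hb)).symm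
  intro x hx y hy
  have h1 : x * y * x⁻¹ * y⁻¹ ∈ M₀ := by
    rw [← QuotientGroup.eq_one_iff (N := M₀)]
    show π (x * y * x⁻¹ * y⁻¹) = 1
    rw [map_mul, map_mul, map_mul, map_inv, map_inv, hcc x hx y hy]
    group
  have h2 : x * y * x⁻¹ * y⁻¹ ∈ (P : Subgroup G) :=
    mul_mem (mul_mem (mul_mem hx hy) (inv_mem hx)) (inv_mem hy)
  have h3 : x * y * x⁻¹ * y⁻¹ = 1 := by
    obtain ⟨k, hk⟩ := pel_of_mem P.2 h2
    refine orderOf_eq_one_iff.mp (Nat.eq_one_of_dvd_coprimes
      ((Cfsg.Lib.Components.coprime_card_pPrimeCore (G := G) p).pow_right k)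
      (Subgroup.orderOf_dvd_natCard M₀ h1) (dvd_of_eq hk))
  exact mul_inv_eq_iff_eq_mul.mp (mul_inv_eq_one.mp h3)

/-- `P ∩ C(y)` has index `m` in `P` for `y` of class size `m`. -/
theorem card_inf_cent (P : Sylow p G) {y : G} (hy : cs y = m) :
    Nat.card ((P : Subgroup G) ⊓ centralizer ({y} : Set G) : Subgroup G) * m =
      Nat.card (P : Subgroup G) := by
  haveI := Fact.mk hS.hp
  set A := (P : Subgroup G) ⊓ centralizer ({y} : Set G)
  have hcop : (P : Subgroup G).index.Coprime (cs y) := by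
    refine Nat.coprime_of_dvd fun s hs h1 h2 => ?_
    rw [hy] at h2
    exact P.not_dvd_index (hS.hm s hs h2 ▸ h1)
  have h1 := A.card_mul_index
  rw [show A.index = (P : Subgroup G).index * cs y from index_inf_of_coprime hcop, hy,
    ← (P : Subgroup G).card_mul_index] at h1
  exact Nat.eq_of_mul_eq_mul_right (Nat.pos_of_ne_zero (P : Subgroup G).index_ne_zero_of_finite)
    (by rw [← h1]; ring)

/-- In the abelian situation an element of `P` fixing one element of class size `m` of `O_q(G)`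
centralises `O_q(G)`. -/
theorem kernel (P : Sylow p G) (hP : ∀ x ∈ (P : Subgroup G), ∀ y ∈ (P : Subgroup G), Commute x y)
    (hJ : ∀ j ∈ pCore q G, cs j ≠ n * m) {c v : G} (hc : c ∈ (P : Subgroup G)) (hvJ : v ∈ pCore q G)
    (hvm : cs v = m) (hcv : Commute c v) : ∀ y ∈ pCore q G, Commute c y := by
  haveI := Fact.mk hS.hp
  haveI := Fact.mk hS.hq
  set J := pCore q G with hJdef
  haveI hJc : IsMulCommutative J :=
    ⟨⟨fun a b => Subtype.ext (hS.core_comm hJ a a.2 b b.2).eq⟩⟩
  set A := zpowers c with hA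
  have hn : A ≤ normalizer (J : Set G) := by rw [normalizer_eq_top]; exact le_top
  have hcp := pel_of_mem P.2 hc
  have hcop : (Nat.card A).Coprime (Nat.card J) := by
    obtain ⟨i, hi⟩ := hcp
    obtain ⟨j, hj⟩ := IsPGroup.iff_card.mp (Cfsg.Lib.Components.isPGroup_pCore (G := G) q)
    rw [hA, Nat.card_zpowers, hi, hj]
    exact Nat.Coprime.pow _ _ ((Nat.coprime_primes hS.hp hS.hq).mpr hS.p_ne_q)
  obtain ⟨hinf, hsup⟩ := Cfsg.Lib.Coprime.abelian_coprime_decomp hn hcop
  have hvF : v ∈ J ⊓ centralizer (A : Set G) := ⟨hvJ, mem_centralizer_iff.mpr fun z hz => by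
    obtain ⟨i, rfl⟩ := mem_zpowers_iff.mp hz
    exact (hcv.zpow_left i).eq⟩
  have hP' : ∀ x ∈ (P : Subgroup G), (∀ z ∈ J ⊓ centralizer (A : Set G),
      x * z * x⁻¹ ∈ J ⊓ centralizer (A : Set G)) ∧ ∀ z ∈ ⁅J, A⁆, x * z * x⁻¹ ∈ ⁅J, A⁆ := by
    intro x hx
    have hxc : ∀ a ∈ A, x * a * x⁻¹ = a := fun a ha => by
      obtain ⟨i, rfl⟩ := mem_zpowers_iff.mp ha
      rw [((hP x hx c hc).zpow_right i).eq, mul_inv_cancel_right]
    refine ⟨fun z hz => ⟨(inferInstance : J.Normal).conj_mem z hz.1 x, ?_⟩, fun z hz => ?_⟩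
    · refine mem_centralizer_iff.mpr fun a ha => ?_
      have h1 := congrArg (fun t => x * t * x⁻¹) (mem_centralizer_iff.mp hz.2 a ha)
      calc a * (x * z * x⁻¹) = (x * a * x⁻¹) * (x * z * x⁻¹) := by rw [hxc a ha]
        _ = x * (a * z) * x⁻¹ := by group
        _ = x * (z * a) * x⁻¹ := h1
        _ = (x * z * x⁻¹) * (x * a * x⁻¹) := by group
        _ = (x * z * x⁻¹) * a := by rw [hxc a ha]
    · have h1 : (MulAut.conj x).toMonoidHom z ∈ ⁅J, A⁆.map (MulAut.conj x).toMonoidHom :=
        ⟨z, hz, rfl⟩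
      rw [map_commutator] at h1
      refine commutator_mono ?_ ?_ h1
      · rintro _ ⟨w, hw, rfl⟩
        exact (inferInstance : J.Normal).conj_mem w hw x
      · rintro _ ⟨w, hw, rfl⟩
        show x * w * x⁻¹ ∈ A
        rw [hxc w hw]
        exact hw
  intro y hy
  have hmove : ∀ w ∈ ⁅J, A⁆, w = 1 := by
    intro w hw
    by_contra hw1
    have hwJ : w ∈ J := Cfsg.Lib.Coprime.commutator_le_of_le_normalizer hn hw
    have hwF : ¬ Commute c w := fun h => hw1 (by
      have : w ∈ (J ⊓ centralizer (A : Set G)) ⊓ ⁅J, A⁆ := ⟨⟨hwJ, mem_centralizer_iff.mpr fun z hz => by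
        obtain ⟨i, rfl⟩ := mem_zpowers_iff.mp hz
        exact (h.zpow_left i).eq⟩, hw⟩
      rw [hinf] at this
      exact this)
    have hmM : ∀ z ∈ J, ¬ Commute c z → cs z = m := fun z hz hcz => by
      rcases hS.cross.hyp.cases z with h | h | h | h
      · exact absurd (Subgroup.mem_center_iff.mp (cs_eq_one_iff.mp h) c) hcz
      · exact absurd hS.swap.p_dvd
          (hS.cross.crossN q hS.hq z (pel_of_mem (Cfsg.Lib.Components.isPGroup_pCore q) hz) h)
      · exact h
      · exact absurd h (hJ z hz)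
    have hvw : ¬ Commute c (v * w) := fun h => hwF (by
      have := hcv.inv_right.mul_right h
      rwa [inv_mul_cancel_left] at this)
    have hle : (P : Subgroup G) ⊓ centralizer ({v * w} : Set G) ≤
        ((P : Subgroup G) ⊓ centralizer ({v} : Set G)) ⊓ centralizer ({w} : Set G) := by
      rintro x ⟨hx, hxvw⟩
      have h1 : (x * v * x⁻¹) * (x * w * x⁻¹) = v * w := by
        rw [show (x * v * x⁻¹) * (x * w * x⁻¹) = x * (v * w) * x⁻¹ by group,
          (mem_cent.mp hxvw).eq, mul_inv_cancel_right]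
      have h2 : v⁻¹ * (x * v * x⁻¹) = w * (x * w * x⁻¹)⁻¹ := by
        rw [inv_mul_eq_iff_eq_mul, ← mul_assoc, ← h1, mul_inv_cancel_right]
      have h3 : v⁻¹ * (x * v * x⁻¹) ∈ (J ⊓ centralizer (A : Set G)) ⊓ ⁅J, A⁆ :=
        ⟨Subgroup.mul_mem _ (Subgroup.inv_mem _ hvF) ((hP' x hx).1 v hvF),
          h2 ▸ Subgroup.mul_mem _ hw (Subgroup.inv_mem _ ((hP' x hx).2 w hw))⟩
      rw [hinf, mem_bot, inv_mul_eq_one] at h3
      have h4 : x * w * x⁻¹ = w := by
        rw [← h3] at h1
        exact mul_left_cancel h1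
      exact ⟨⟨hx, mem_cent.mpr (mul_inv_eq_iff_eq_mul.mp h3.symm)⟩,
        mem_cent.mpr (mul_inv_eq_iff_eq_mul.mp h4)⟩
    have e1 := hS.card_inf_cent P (hmM _ (mul_mem hvJ hwJ) hvw)
    have e2 := hS.card_inf_cent P hvm
    have heq : (P : Subgroup G) ⊓ centralizer ({v * w} : Set G) =
        (P : Subgroup G) ⊓ centralizer ({v} : Set G) :=
      eq_of_le_of_card_ge (hle.trans inf_le_left)
        (Nat.eq_of_mul_eq_mul_right (zero_lt_one.trans hS.cross.hyp.m_lt) (e2.trans e1.symm)).le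
    have hc' : c ∈ (P : Subgroup G) ⊓ centralizer ({v} : Set G) := ⟨hc, mem_cent.mpr hcv⟩
    rw [← heq] at hc'
    exact hwF (mem_cent.mp (hle hc').2)
  have hJle : J ≤ J ⊓ centralizer (A : Set G) := by
    conv_lhs => rw [← hsup]
    exact sup_le le_rfl fun w hw => by rw [hmove w hw]; exact one_mem _
  exact mem_centralizer_iff.mp (hJle hy).2 c (mem_zpowers c)

theorem no_L_of_comm_sylow (h : ∀ Q : Sylow q G, ∀ x ∈ (Q : Subgroup G), ∀ y ∈ (Q : Subgroup G),
    Commute x y) : ∀ j ∈ pCore q G, cs j ≠ n * m := by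
  haveI := Fact.mk hS.hq
  intro j hj he
  obtain ⟨Q⟩ : Nonempty (Sylow q G) := inferInstance
  have hjQ : j ∈ (Q : Subgroup G) := Cfsg.Lib.Coprime.pCore_le_sylow q Q hj
  have hle : (Q : Subgroup G) ≤ centralizer ({j} : Set G) := fun x hx =>
    mem_cent.mpr (h Q x hx j hjQ)
  exact Q.not_dvd_index ((he ▸ hS.swap.p_dvd.trans (Dvd.intro m rfl) : q ∣ cs j).trans
    (index_dvd_of_le hle))

/-- An element of class size `m` in `O_q(G)` gives one of class size `n` in `O_p(G)`. -/
theorem core_of_M {v : G} (hvJ : v ∈ pCore q G) (hvm : cs v = m) :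
    ∃ u : G, PEl p u ∧ cs u = n ∧ u ∈ pCore p G := by
  haveI := Fact.mk hS.hp
  haveI := Fact.mk hS.hq
  by_cases hex : ∃ j ∈ pCore q G, cs j = n * m
  · obtain ⟨j, hj, hjnm⟩ := hex
    exact hS.core_of_L hj hjnm
  push Not at hex
  have hv : PEl q v := pel_of_mem (Cfsg.Lib.Components.isPGroup_pCore q) hvJ
  obtain ⟨u, hu, hun, huv⟩ := hS.exists_comm hv hvm
  obtain ⟨P, hP⟩ := exists_sylow_le_cent (p := p) (H := centralizer ({u} : Set G))
    (show ¬ p ∣ cs u by rw [hun]; exact hS.p_not)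
  have huP : u ∈ (P : Subgroup G) :=
    Cfsg.Lib.ClassSizesNilpotent.mem_of_le_centralizer P (pel_isPGroup hu) hP
  exact ⟨u, hu, hun, hS.mem_pCore_of_cent hu hun
    (hS.kernel P (hS.sylow_comm hvJ hvm P) hex huP hvJ hvm huv)⟩

theorem exists_core : (∃ v ∈ pCore q G, cs v = m) ∨ ∃ u ∈ pCore p G, cs u = n := by
  haveI := Fact.mk hS.hp
  haveI := Fact.mk hS.hq
  by_cases hc : ∀ j ∈ pCore q G, j ∈ center G
  · obtain ⟨u, hu, hun⟩ := hS.exists_N
    exact Or.inr ⟨u, hS.mem_pCore_of_cent hu hun fun y hy => Subgroup.mem_center_iff.mp (hc y hy) u, hun⟩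
  push Not at hc
  obtain ⟨j, hj, hjc⟩ := hc
  rcases hS.cross.hyp.cases j with h | h | h | h
  · exact absurd (cs_eq_one_iff.mp h) hjc
  · exact absurd hS.swap.p_dvd
      (hS.cross.crossN q hS.hq j (pel_of_mem (Cfsg.Lib.Components.isPGroup_pCore q) hj) h)
  · exact Or.inl ⟨j, hj, h⟩
  · obtain ⟨u, -, hun, huc⟩ := hS.core_of_L hj h
    exact Or.inr ⟨u, huc, hun⟩

theorem lt {v u₀ : G} (hvJ : v ∈ pCore q G) (hvm : cs v = m) (hu₀ : u₀ ∈ pCore p G)
    (hu₀n : cs u₀ = n) : m < n := by
  haveI := Fact.mk hS.hp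
  haveI := Fact.mk hS.hq
  set J := pCore q G with hJdef
  have hJq := Cfsg.Lib.Components.isPGroup_pCore (G := G) q
  have hJ := hS.no_L_of_comm_sylow fun Q => hS.swap.sylow_comm hu₀ hu₀n Q
  obtain ⟨P⟩ : Nonempty (Sylow p G) := inferInstance
  have hPc := hS.sylow_comm hvJ hvm P
  have hOP : pCore p G ≤ (P : Subgroup G) := Cfsg.Lib.Coprime.pCore_le_sylow p P
  have hker : ∀ a ∈ (P : Subgroup G), ∀ y ∈ J, cs y = m → Commute a y → a ∈ pCore p G :=
    fun a ha y hy hym hay => mem_pCore_of_fitting (pel_of_mem P.2 ha)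
      (hS.two.mem_fitting hS.hp hS.hq hS.p_ne_q (fun z hz => hPc a ha z (hOP hz))
        (hS.kernel P hPc hJ ha hy hym hay))
  obtain ⟨a, haP, haO⟩ : ∃ a ∈ (P : Subgroup G), a ∉ pCore p G := by
    by_contra hcon
    push Not at hcon
    have hle : (P : Subgroup G) ≤ centralizer ({v} : Set G) := fun x hx => mem_cent.mpr
      (Cfsg.Lib.Components.pCore_commute hS.p_ne_q x v (hcon x hx) hvJ)
    exact P.not_dvd_index ((hvm ▸ hS.p_dvd : p ∣ cs v).trans (index_dvd_of_le hle))
  have han : cs a = n := by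
    rcases hS.cross.hyp.cases a with h | h | h | h
    · exact absurd (mem_pCore_of_fitting (pel_of_mem P.2 haP)
        (hS.two.mem_fitting hS.hp hS.hq hS.p_ne_q (fun z hz => hPc a haP z (hOP hz))
          fun z _ => (Subgroup.mem_center_iff.mp (cs_eq_one_iff.mp h) z).symm)) haO
    · exact h
    · exact absurd h (hS.not_M (pel_of_mem P.2 haP))
    · have hle : (P : Subgroup G) ≤ centralizer ({a} : Set G) := fun x hx => mem_cent.mpr (hPc x hx a haP)
      exact absurd ((h ▸ hS.p_dvd.trans (Dvd.intro_left n rfl) : p ∣ cs a).trans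
        (index_dvd_of_le hle)) P.not_dvd_index
  set Z := J ⊓ center G with hZ
  -- at most `n` cosets
  have hupper : Nat.card J ≤ n * Nat.card Z := by
    obtain ⟨S⟩ : Nonempty (Sylow q (centralizer ({a} : Set G))) := inferInstance
    set Qa := (S : Subgroup (centralizer ({a} : Set G))).map (centralizer ({a} : Set G)).subtype
    have hQap : IsPGroup q Qa := S.2.map _
    have hint : J ⊓ Qa ≤ Z := fun y hy => ⟨hy.1, by
      by_contra hyc
      have hcomm : Commute a y := (mem_cent.mp (map_subtype_le _ hy.2)).symm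
      rcases hS.cross.hyp.cases y with h | h | h | h
      · exact hyc (cs_eq_one_iff.mp h)
      · exact hS.cross.crossN q hS.hq y (pel_of_mem hJq hy.1) h hS.swap.p_dvd
      · exact haO (hker a haP y hy.1 h hcomm)
      · exact hJ y hy.1 h⟩
    have h1 := Cfsg.Lib.Coprime.card_sup_mul_card_inf (N := J) (H := Qa) le_normalizer_of_normal
    obtain ⟨i, hi⟩ := IsPGroup.iff_card.mp (hJq.to_sup_of_normal_left hQap : IsPGroup q (J ⊔ Qa : Subgroup G))
    have hi' : i ≤ (Nat.card G).factorization q :=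
      (hS.hq.pow_dvd_iff_le_factorization Nat.card_pos.ne').mp (hi ▸ card_subgroup_dvd_card _)
    have hQa : Nat.card Qa = q ^ (Nat.card (centralizer ({a} : Set G))).factorization q := by
      rw [card_map_of_injective (centralizer ({a} : Set G)).subtype_injective]
      exact S.card_eq_multiplicity
    have e1 := fact_index (p := q) (centralizer ({a} : Set G))
    rw [show (centralizer ({a} : Set G)).index = n from han] at e1
    have hn' : n = q ^ n.factorization q := by
      have hn0 : n ≠ 0 := (zero_lt_one.trans hS.cross.hyp.n_lt).ne'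
      have e := Nat.eq_prime_pow_of_unique_prime_dvd hn0 (fun {d} hd hdn => hS.hn d hd hdn)
      conv_rhs => rw [e, hS.hq.factorization_pow, Finsupp.single_eq_same]
      exact e
    rw [hi, hQa] at h1
    have h2 : Nat.card J * q ^ (Nat.card (centralizer ({a} : Set G))).factorization q ≤
        (n * Nat.card Z) * q ^ (Nat.card (centralizer ({a} : Set G))).factorization q := by
      rw [← h1, mul_right_comm]
      refine Nat.mul_le_mul ?_ (Nat.le_of_dvd Nat.card_pos (card_dvd_of_le hint))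
      rw [hn', ← pow_add]
      exact Nat.pow_le_pow_right hS.hq.pos (by omega)
    exact Nat.le_of_mul_le_mul_right h2 (pow_pos hS.hq.pos _)
  -- more than `m` cosets
  have hlower : m * Nat.card Z < Nat.card J := by
    have hcls : ∀ x ∈ cls v, x ∈ J ∧ cs x = m := by
      rintro _ ⟨g, rfl⟩
      exact ⟨(inferInstance : J.Normal).conj_mem v hvJ g, by rw [cs_conj, hvm]⟩
    have hsep : ∀ x ∈ cls v, ∀ z : G, z ∈ Z → x * z ∈ cls v → z = 1 := by
      rintro x hx z hz ⟨g, hg⟩
      obtain ⟨hxJ, hxm⟩ := hcls x hx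
      obtain ⟨g₀, rfl⟩ := hx
      have hcop : (P : Subgroup G).index.Coprime (cs (g₀ * v * g₀⁻¹)) := by
        refine Nat.coprime_of_dvd fun s hs h1 h2 => ?_
        rw [hxm] at h2
        exact P.not_dvd_index (hS.hm s hs h2 ▸ h1)
      obtain ⟨b, hb, c, hc, hbc⟩ := exists_mul_of_coprime hcop (g * g₀⁻¹)
      set x := g₀ * v * g₀⁻¹ with hxdef
      have h1 : b * x * b⁻¹ = x * z := by
        have e1 : (g * g₀⁻¹) * x * (g * g₀⁻¹)⁻¹ = x * z := by
          rw [← hg, hxdef]; group
        rw [hbc] at e1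
        rw [← e1]
        have := (mem_cent.mp hc).eq
        calc b * x * b⁻¹ = b * (c * x) * c⁻¹ * b⁻¹ := by rw [this]; group
          _ = _ := by group
      have hzc := Subgroup.mem_center_iff.mp hz.2
      have hpow : ∀ k : ℕ, b ^ k * x * (b ^ k)⁻¹ = x * z ^ k := by
        intro k
        induction k with
        | zero => simp
        | succ k ih =>
          calc b ^ (k + 1) * x * (b ^ (k + 1))⁻¹ = b * (b ^ k * x * (b ^ k)⁻¹) * b⁻¹ := by
                rw [pow_succ' b k]; group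
            _ = (b * x * b⁻¹) * (b * z ^ k * b⁻¹) := by rw [ih]; group
            _ = x * z * z ^ k := by
                rw [h1, (Commute.pow_right (hzc b : Commute b z) k).eq, mul_inv_cancel_right]
            _ = x * z ^ (k + 1) := by rw [pow_succ', mul_assoc]
      have h2 := hpow (orderOf b)
      rw [pow_orderOf_eq_one, one_mul, inv_one, mul_one] at h2
      have h3 : z ^ orderOf b = 1 := (mul_eq_left.mp h2.symm)
      have h4 := pow_gcd_eq_one.mpr ⟨h3, pow_orderOf_eq_one z⟩
      rwa [(pel_coprime hS.hp hS.hq hS.p_ne_q (pel_of_mem P.2 hb) (pel_of_mem hJq hz.1)).gcd_eq_one,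
        pow_one] at h4
    let f : Option (cls v) × Z → J := fun t => t.1.elim ⟨t.2, t.2.2.1⟩
      fun x => ⟨(x : G) * t.2, mul_mem (hcls x x.2).1 t.2.2.1⟩
    have hne : ∀ (x : cls v) (z w : Z), (x : G) * z ≠ w := fun x z w h => by
      have : (x : G) ∈ center G := by
        rw [eq_mul_inv_of_mul_eq h]
        exact mul_mem w.2.2 (inv_mem z.2.2)
      have := cs_eq_one_iff.mpr this
      rw [(hcls x x.2).2] at this
      have := hS.cross.hyp.m_lt
      omega
    have hf : Function.Injective f := by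
      rintro ⟨s, z⟩ ⟨t, w⟩ h
      have h' := congrArg Subtype.val h
      rcases s with _ | x <;> rcases t with _ | y
      · exact Prod.ext rfl (Subtype.ext h')
      · exact absurd h'.symm (hne y w z)
      · exact absurd h' (hne x z w)
      · have h'' : (x : G) * z = y * w := h'
        have hzw : (x : G) * ((z : G) * (w : G)⁻¹) = y := by
          rw [← mul_assoc, h'', mul_inv_cancel_right]
        have h5 := hsep x x.2 _ (mul_mem z.2 (inv_mem w.2)) (hzw.symm ▸ y.2)
        rw [mul_inv_eq_one] at h5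
        have h6 : z = w := Subtype.ext h5
        subst h6
        have h7 : x = y := Subtype.ext (mul_right_cancel h'')
        rw [h7]
    have h1 := Nat.card_le_card_of_injective f hf
    rw [Nat.card_prod, Finite.card_option, card_cls, hvm, add_mul, one_mul] at h1
    have : 0 < Nat.card Z := Nat.card_pos
    omega
  exact Nat.lt_of_mul_lt_mul_right (hlower.trans_le hupper)

theorem both : (∃ v ∈ pCore q G, cs v = m) ∧ ∃ u ∈ pCore p G, cs u = n := by
  rcases hS.exists_core with ⟨v, hv, hvm⟩ | ⟨u, hu, hun⟩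
  · obtain ⟨u, -, hun, huc⟩ := hS.core_of_M hv hvm
    exact ⟨⟨v, hv, hvm⟩, u, huc, hun⟩
  · obtain ⟨v, -, hvm, hvc⟩ := hS.swap.core_of_M hu hun
    exact ⟨⟨v, hvc, hvm⟩, u, hu, hun⟩

theorem false : False := by
  obtain ⟨⟨v, hv, hvm⟩, u, hu, hun⟩ := hS.both
  exact lt_asymm (hS.lt hv hvm hu hun) (hS.swap.lt hu hun hv hvm)

end Pair

end Cfsg.Lib.FourSizes
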